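/-
Transvections over an extension field K of F acting on F^ι, semilinear maps.
-/
import Cfsg.Agent.Lib.Transvec.Basic

set_option autoImplicit false
set_option linter.unusedSectionVars false
set_option linter.style.haveILetI false

namespace Cfsg.Agent.FieldMax

open scoped Matrix
open Matrix Cfsg.Agent.Transvec

variable {ι : Type} [Fintype ι] [DecidableEq ι] {F : Type*} [Field F]
variable {K : Type*} [Field K] [Algebra F K] [Module K (ι → F)] [IsScalarTower F K (ι → F)]

/-- The matrix of x ↦ x + φ(x) c for a K-functional φ. -/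
noncomputable def ktvMat (c : ι → F) (φ : Module.Dual K (ι → F)) : Matrix ι ι F :=
  1 + LinearMap.toMatrix' ((φ.smulRight c).restrictScalars F)

theorem ktvMat_mulVec (c : ι → F) (φ : Module.Dual K (ι → F)) (x : ι → F) :
    ktvMat c φ *ᵥ x = x + φ x • c := by
  rw [ktvMat, Matrix.add_mulVec, Matrix.one_mulVec, LinearMap.toMatrix'_mulVec]
  rfl

theorem ktvMat_mul_neg {c : ι → F} {φ : Module.Dual K (ι → F)} (h : φ c = 0) :
    ktvMat c φ * ktvMat c (-φ) = 1 := by
  refine Matrix.ext_of_mulVec_single fun i => ?_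
  rw [← Matrix.mulVec_mulVec, ktvMat_mulVec, ktvMat_mulVec, Matrix.one_mulVec]
  simp [h]

/-- The K-transvection x ↦ x + φ(x) c, where φ(c) = 0. -/
noncomputable def ktv (c : ι → F) (φ : Module.Dual K (ι → F)) (h : φ c = 0) : GL ι F where
  val := ktvMat c φ
  inv := ktvMat c (-φ)
  val_inv := ktvMat_mul_neg h
  inv_val := by simpa using ktvMat_mul_neg (c := c) (φ := -φ) (by simp [h])

theorem mv_ktv {c : ι → F} {φ : Module.Dual K (ι → F)} (h : φ c = 0) (x : ι → F) :
    mv (ktv c φ h) x = x + φ x • c :=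
  ktvMat_mulVec c φ x

theorem mv_ktv_inv {c : ι → F} {φ : Module.Dual K (ι → F)} (h : φ c = 0) (x : ι → F) :
    mv (ktv c φ h)⁻¹ x = x - φ x • c := by
  show ktvMat c (-φ) *ᵥ x = _
  rw [ktvMat_mulVec, LinearMap.neg_apply, neg_smul, sub_eq_add_neg]

theorem ktv_fix {c : ι → F} {φ : Module.Dual K (ι → F)} (h : φ c = 0) {x : ι → F} (hx : φ x = 0) :
    mv (ktv c φ h) x = x := by
  rw [mv_ktv, hx, zero_smul, add_zero]

theorem ktv_pow {c : ι → F} {φ : Module.Dual K (ι → F)} (h : φ c = 0) (n : ℕ) (x : ι → F) :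
    mv (ktv c φ h ^ n) x = x + ((n : K) * φ x) • c := by
  induction n with
  | zero => simp [mv_one]
  | succ n ih =>
    rw [pow_succ', mv_mul, ih, mv_ktv, map_add, map_smul, h, smul_zero, add_zero, Nat.cast_succ,
      add_mul, one_mul, add_smul, add_assoc]

theorem det_eq_one_of_pow_char [Fintype F] {g : GL ι F} {p : ℕ} [CharP F p] (hg : g ^ p = 1) :
    g ∈ Geo.specialLinear ι F := by
  haveI : Fact p.Prime := ⟨(CharP.char_is_prime_or_zero F p).resolve_right (CharP.char_ne_zero_of_finite F p)⟩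
  rw [Geo.specialLinear, MonoidHom.mem_ker]
  have h : (((Matrix.GeneralLinearGroup.det g) : Fˣ) : F) ^ p = 1 := by
    rw [← Units.val_pow_eq_pow_val, ← map_pow, hg, map_one, Units.val_one]
  ext
  have h2 : ((((Matrix.GeneralLinearGroup.det g) : Fˣ) : F) - 1) ^ p = 0 := by
    rw [sub_pow_char, h, one_pow, sub_self]
  exact sub_eq_zero.1 (pow_eq_zero_iff'.1 h2).1

theorem ktv_mem_specialLinear [Fintype F] {c : ι → F} {φ : Module.Dual K (ι → F)} (h : φ c = 0) :
    ktv c φ h ∈ Geo.specialLinear ι F := by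
  obtain ⟨p, hp⟩ := CharP.exists F
  haveI : CharP K p := charP_of_injective_algebraMap (algebraMap F K).injective p
  refine det_eq_one_of_pow_char (p := p) (ext_mv fun x => ?_)
  rw [ktv_pow, CharP.cast_eq_zero, zero_mul, zero_smul, add_zero, mv_one]

/-- Commuting with all scalars. -/
def IsKLin (K : Type*) [Field K] [Algebra F K] [Module K (ι → F)] (g : GL ι F) : Prop :=
  ∀ (k : K) (v : ι → F), mv g (k • v) = k • mv g v

/-- Semilinear over K. -/
def IsSemi (K : Type*) [Field K] [Algebra F K] [Module K (ι → F)] (g : GL ι F) : Prop :=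
  ∀ k : K, ∃ k' : K, ∀ v : ι → F, mv g (k • v) = k' • mv g v

theorem mv_smulF_comm (g : GL ι F) (a : F) (v : ι → F) :
    mv g ((algebraMap F K a) • v) = (algebraMap F K a) • mv g v := by
  rw [IsScalarTower.algebraMap_smul, IsScalarTower.algebraMap_smul, mv_smul]

theorem ktv_isKLin {c : ι → F} {φ : Module.Dual K (ι → F)} (h : φ c = 0) :
    IsKLin K (ktv c φ h) := by
  intro k v
  rw [mv_ktv, mv_ktv, map_smul, smul_add, smul_smul]
  rfl

/-- A K-line, as an F-subspace. -/
noncomputable def line (K : Type*) [Field K] [Algebra F K] [Module K (ι → F)]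
    [IsScalarTower F K (ι → F)] (v : ι → F) : Submodule F (ι → F) :=
  (Submodule.span K {v}).restrictScalars F

theorem mem_line {v x : ι → F} : x ∈ line K v ↔ ∃ k : K, k • v = x := by
  rw [line, Submodule.restrictScalars_mem, Submodule.mem_span_singleton]

theorem smul_mem_line {v x : ι → F} (hx : x ∈ line K v) (k : K) : k • x ∈ line K v :=
  (Submodule.span K {v}).smul_mem k hx

theorem self_mem_line (v : ι → F) : v ∈ line K v :=
  Submodule.mem_span_singleton_self v

theorem finrank_line {v : ι → F} (hv : v ≠ 0) :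
    Module.finrank F (line K v) = Module.finrank F K := by
  have e : K ≃ₗ[F] line K v :=
    ((LinearEquiv.toSpanNonzeroSingleton K (ι → F) v hv).restrictScalars F)
  exact e.finrank_eq.symm

theorem line_le {v x : ι → F} (hx : x ∈ line K v) : line K x ≤ line K v := fun y hy => by
  obtain ⟨k, rfl⟩ := mem_line.1 hy
  exact smul_mem_line hx k

theorem line_eq {v x : ι → F} (hx : x ∈ line K v) (hx0 : x ≠ 0) : line K x = line K v := by
  refine le_antisymm (line_le hx) (line_le ?_)
  obtain ⟨k, rfl⟩ := mem_line.1 hx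
  refine mem_line.2 ⟨k⁻¹, ?_⟩
  rw [smul_smul, inv_mul_cancel₀ (fun hk => hx0 (by rw [hk, zero_smul])), one_smul]

/-- A K-functional vanishing on a K-subspace and one at a vector outside it. -/
theorem exists_kdual {W : Submodule K (ι → F)} {z : ι → F} (hz : z ∉ W) :
    ∃ φ : Module.Dual K (ι → F), (∀ w ∈ W, φ w = 0) ∧ φ z = 1 := by
  obtain ⟨φ, h1, h2⟩ := Submodule.exists_dual_map_eq_bot_of_notMem hz inferInstance
  refine ⟨(φ z)⁻¹ • φ, fun w hw => ?_, ?_⟩
  · have : φ w ∈ W.map φ := ⟨w, hw, rfl⟩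
    rw [h2, Submodule.mem_bot] at this
    simp [this]
  · simp [inv_mul_cancel₀ h1]

/-- An F-subspace stable under an element outside F is stable under K, for prime degree. -/
theorem smul_stable (hr : (Module.finrank F K).Prime) {U : Submodule F (ι → F)} {k : K}
    (hk : k ∉ (⊥ : Subalgebra F K)) (hU : ∀ u ∈ U, k • u ∈ U) :
    ∀ (l : K), ∀ u ∈ U, l • u ∈ U := by
  let S : Subalgebra F K :=
    { carrier := {l | ∀ u ∈ U, l • u ∈ U}
      mul_mem' := fun {a b} ha hb u hu => by rw [← smul_smul]; exact ha _ (hb u hu)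
      add_mem' := fun {a b} ha hb u hu => by rw [add_smul]; exact U.add_mem (ha u hu) (hb u hu)
      algebraMap_mem' := fun a u hu => by rw [IsScalarTower.algebraMap_smul]; exact U.smul_mem a hu }
  haveI := Subalgebra.isSimpleOrder_of_finrank_prime F K hr
  have hS : S = ⊤ := (eq_bot_or_eq_top S).resolve_left fun h => hk (h ▸ (hU : k ∈ S))
  intro l
  exact (hS ▸ (Algebra.mem_top : l ∈ (⊤ : Subalgebra F K)) : l ∈ S)

end Cfsg.Agent.FieldMax
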