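/-
A subgroup containing all transvections over K, and some map that is not semilinear, moves a line
while fixing a hyperplane of that line pointwise.
-/
import Cfsg.Agent.Lib.FieldMax.Setup

set_option autoImplicit false
set_option linter.unusedSectionVars false
set_option linter.style.haveILetI false

namespace Cfsg.Agent.FieldMax

open scoped Matrix
open Matrix Cfsg.Agent.Transvec

variable {ι : Type} [Fintype ι] [DecidableEq ι] {F : Type*} [Field F] [Fintype F]
variable {K : Type*} [Field K] [Algebra F K] [Module K (ι → F)] [IsScalarTower F K (ι → F)]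
variable {M : Subgroup (GL ι F)}

/-- A member of M fixing a subspace pointwise preserves every line containing it, in dimension j. -/
def GoodDim (K : Type*) [Field K] [Algebra F K] [Module K (ι → F)] [IsScalarTower F K (ι → F)]
    (M : Subgroup (GL ι F)) (j : ℕ) : Prop :=
  ∀ (v : ι → F), v ≠ 0 → ∀ U : Submodule F (ι → F), U ≤ line K v → Module.finrank F U = j →
    ∀ g ∈ M, (∀ u ∈ U, mv g u = u) → ∀ x ∈ line K v, mv g x ∈ line K v

/-- The only r-dimensional subspace stable under the pointwise stabiliser of part of a line. -/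
theorem eq_line (hT : ∀ (c : ι → F) (φ : Module.Dual K (ι → F)) (h : φ c = 0), ktv c φ h ∈ M)
    {v : ι → F} (hv : v ≠ 0) {U : Submodule F (ι → F)} (hU : U ≤ line K v)
    {S : Submodule F (ι → F)} (hS : Module.finrank F S = Module.finrank F K)
    (hst : ∀ g ∈ M, (∀ u ∈ U, mv g u = u) → ∀ x ∈ S, mv g x ∈ S) : S = line K v := by
  by_cases hle : S ≤ line K v
  · exact Submodule.eq_of_le_of_finrank_eq hle (hS.trans (finrank_line hv).symm)
  exfalso
  obtain ⟨z, hzS, hz⟩ := SetLike.not_le_iff_exists.1 hle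
  obtain ⟨φ, hφ, hφz⟩ := exists_kdual (W := Submodule.span K {v}) (z := z) hz
  refine hle (le_of_eq (Submodule.eq_of_le_of_finrank_eq (fun c hc => ?_)
    ((finrank_line hv).trans hS.symm)).symm)
  have h := hst (ktv c φ (hφ c hc)) (hT _ _ _)
    (fun u hu => ktv_fix _ (hφ u (hU hu))) z hzS
  rw [mv_ktv, hφz, one_smul] at h
  simpa using S.sub_mem h hzS

theorem finrank_map_mv (g : GL ι F) (S : Submodule F (ι → F)) :
    Module.finrank F (S.map (mvLin g)) = Module.finrank F S :=
  (Submodule.equivMapOfInjective (mvLin g)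
    (fun x y hxy => mv_inj g (by simpa using hxy)) S).finrank_eq.symm

theorem mem_map_mv {g : GL ι F} {S : Submodule F (ι → F)} {x : ι → F} :
    x ∈ S.map (mvLin g) ↔ ∃ y ∈ S, mv g y = x := by
  simp [Submodule.mem_map]

/-- If all stabilisers of points preserve lines, every member of M is semilinear. -/
theorem not_good_one (hm : 2 * Module.finrank F K ≤ Fintype.card ι)
    (hT : ∀ (c : ι → F) (φ : Module.Dual K (ι → F)) (h : φ c = 0), ktv c φ h ∈ M)
    (hns : ∃ g ∈ M, ¬ IsSemi K g) : ¬ GoodDim K M 1 := by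
  intro hG
  obtain ⟨g, hg, hgns⟩ := hns
  refine hgns fun k => ?_
  haveI : Module.Finite F K := Module.finite_of_finrank_pos (by
    rcases Nat.eq_zero_or_pos (Module.finrank F K) with h | h
    · exfalso
      obtain ⟨v, hv⟩ : ∃ v : ι → F, v ≠ 0 := by
        by_contra hc
        push Not at hc
        exact hgns fun k => ⟨1, fun v => by rw [hc v, smul_zero, mv_zero, smul_zero]⟩
      have e := finrank_line (K := K) hv
      have : 0 < Module.finrank F (line K v) := Module.finrank_pos_iff_exists_ne_zero.2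
        ⟨⟨v, self_mem_line v⟩, fun h0 => hv (congrArg Subtype.val h0)⟩
      omega
    · exact h)
  -- g maps lines to lines
  have hline : ∀ v : ι → F, v ≠ 0 → ∃ k' : K, mv g (k • v) = k' • mv g v := by
    intro v hv
    have hgv : mv g v ≠ 0 := fun h => hv (mv_inj g (by rw [h, mv_zero]))
    have hU : Module.finrank F (Submodule.span F {v}) = 1 := finrank_span_singleton hv
    have hUle : Submodule.span F {v} ≤ line K v := by
      rw [Submodule.span_singleton_le_iff_mem]; exact self_mem_line v
    have key := eq_line hT hgv (U := Submodule.span F {mv g v})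
      (by rw [Submodule.span_singleton_le_iff_mem]; exact self_mem_line _)
      (S := (line K v).map (mvLin g)) (by rw [finrank_map_mv, finrank_line hv])
      (fun a ha hfix x hx => by
        obtain ⟨y, hy, rfl⟩ := mem_map_mv.1 hx
        refine mem_map_mv.2 ⟨mv (g⁻¹ * a * g) y, ?_, ?_⟩
        · refine hG v hv _ hUle hU _ (M.mul_mem (M.mul_mem (M.inv_mem hg) ha) hg) (fun u hu => ?_) y hy
          obtain ⟨t, rfl⟩ := Submodule.mem_span_singleton.1 hu
          rw [mv_mul, mv_mul, mv_smul g, hfix _ (Submodule.mem_span_singleton.2 ⟨t, rfl⟩), mv_smul,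
            mv_inv_mv]
        · rw [mv_mul, mv_mul, mv_mv_inv])
    have hmem : mv g (k • v) ∈ line K (mv g v) :=
      key ▸ mem_map_mv.2 ⟨k • v, smul_mem_line (self_mem_line v) k, rfl⟩
    obtain ⟨k', hk'⟩ := mem_line.1 hmem
    exact ⟨k', hk'.symm⟩
  -- the multiplier does not depend on the vector
  have hindep : ∀ v w : ι → F, v ≠ 0 → w ∉ line K v → ∀ a b : K,
      mv g (k • v) = a • mv g v → mv g (k • w) = b • mv g w → a = b := by
    intro v w hv hw a b ha hb
    have hvw : v + w ≠ 0 := fun h => hw (by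
      rw [eq_neg_of_add_eq_zero_right h]
      exact (line K v).neg_mem (self_mem_line v))
    obtain ⟨c, hc⟩ := hline _ hvw
    rw [smul_add, mv_add, mv_add, ha, hb, smul_add] at hc
    by_contra hab
    -- then g w lies on the line of g v, so g maps two lines to one
    have hgv : mv g v ≠ 0 := fun h => hv (mv_inj g (by rw [h, mv_zero]))
    have hrel : (b - c) • mv g w = (c - a) • mv g v := by
      rw [sub_smul, sub_smul, sub_eq_sub_iff_add_eq_add, add_comm, hc, add_comm]
    have hbc : b - c ≠ 0 := fun h => by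
      rw [h, zero_smul] at hrel
      rcases smul_eq_zero.1 hrel.symm with h' | h'
      · exact hab ((sub_eq_zero.1 h').symm.trans (sub_eq_zero.1 h).symm)
      · exact hgv h'
    have hgw : mv g w ∈ line K (mv g v) := mem_line.2 ⟨(b - c)⁻¹ * (c - a), by
      rw [← smul_smul, ← hrel, smul_smul, inv_mul_cancel₀ hbc, one_smul]⟩
    have hmap : (line K v).map (mvLin g) = line K (mv g v) := by
      refine eq_line hT hgv (U := Submodule.span F {mv g v})
        (by rw [Submodule.span_singleton_le_iff_mem]; exact self_mem_line _)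
        (by rw [finrank_map_mv, finrank_line hv]) fun a ha hfix x hx => ?_
      obtain ⟨y, hy, rfl⟩ := mem_map_mv.1 hx
      refine mem_map_mv.2 ⟨mv (g⁻¹ * a * g) y, ?_, ?_⟩
      · refine hG v hv (Submodule.span F {v})
          (by rw [Submodule.span_singleton_le_iff_mem]; exact self_mem_line _) (finrank_span_singleton hv)
          _ (M.mul_mem (M.mul_mem (M.inv_mem hg) ha) hg) (fun u hu => ?_) y hy
        obtain ⟨t, rfl⟩ := Submodule.mem_span_singleton.1 hu
        rw [mv_mul, mv_mul, mv_smul g, hfix _ (Submodule.mem_span_singleton.2 ⟨t, rfl⟩), mv_smul,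
          mv_inv_mv]
      · rw [mv_mul, mv_mul, mv_mv_inv]
    rw [← hmap] at hgw
    obtain ⟨y, hy, hyw⟩ := mem_map_mv.1 hgw
    exact hw (mv_inj g hyw ▸ hy)
  by_cases hall : ∀ v : ι → F, v = 0
  · exact ⟨1, fun v => by rw [hall v, smul_zero, mv_zero, smul_zero]⟩
  push Not at hall
  obtain ⟨v₀, hv₀⟩ := hall
  obtain ⟨a, ha⟩ := hline v₀ hv₀
  refine ⟨a, fun w => ?_⟩
  rcases eq_or_ne w 0 with rfl | hw0
  · rw [smul_zero, mv_zero, smul_zero]
  obtain ⟨b, hb⟩ := hline w hw0
  by_cases hw : w ∈ line K v₀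
  · obtain ⟨z, hz⟩ : ∃ z, z ∉ line K v₀ := by
      by_contra hc
      push Not at hc
      have e : line K v₀ = ⊤ := Submodule.eq_top_iff'.2 hc
      have e2 := finrank_line (K := K) hv₀
      rw [e, finrank_top, Module.finrank_fintype_fun_eq_card] at e2
      have : 0 < Module.finrank F K := Module.finrank_pos
      omega
    have hz0 : z ≠ 0 := fun h => hz (by rw [h]; exact zero_mem _)
    obtain ⟨d, hd⟩ := hline z hz0
    have hz' : z ∉ line K w := by rwa [line_eq hw hw0]
    rw [hb, hindep v₀ z hv₀ hz a d ha hd, hindep w z hw0 hz' b d hb hd]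
  · rw [hb, hindep v₀ w hv₀ hw a b ha hb]

/-- The witness: a member of M fixes a hyperplane of a line pointwise and moves the line. -/
theorem exists_witness (hr : (Module.finrank F K).Prime)
    (hm : 2 * Module.finrank F K ≤ Fintype.card ι)
    (hT : ∀ (c : ι → F) (φ : Module.Dual K (ι → F)) (h : φ c = 0), ktv c φ h ∈ M)
    (hns : ∃ g ∈ M, ¬ IsSemi K g) :
    ∃ (v : ι → F) (U₀ : Submodule F (ι → F)) (h : GL ι F) (y : ι → F), v ≠ 0 ∧ U₀ ≤ line K v ∧
      Module.finrank F U₀ + 1 = Module.finrank F K ∧ h ∈ M ∧ (∀ u ∈ U₀, mv h u = u) ∧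
      y ∈ line K v ∧ mv h y ∉ line K v ∧ U₀ ⊔ Submodule.span F {y} = line K v := by
  haveI : Module.Finite F K := Module.finite_of_finrank_pos hr.pos
  set r := Module.finrank F K with hrdef
  -- dimension r is good
  have hgr : GoodDim K M r := by
    intro v hv U hU hdim g _ hfix x hx
    have hUL : U = line K v :=
      Submodule.eq_of_le_of_finrank_eq hU (hdim.trans (finrank_line hv).symm)
    rw [hfix x (hUL ▸ hx)]
    exact hx
  obtain ⟨j, hj1, hjr, hbad, hgood⟩ : ∃ j, 1 ≤ j ∧ j < r ∧ ¬ GoodDim K M j ∧ GoodDim K M (j + 1) := by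
    by_contra hc
    push Not at hc
    have hdown : ∀ d, d < r → ¬ GoodDim K M (r - d) → False := by
      intro d
      induction d with
      | zero => intro _ h; exact h (by simpa using hgr)
      | succ d ih =>
        intro hd hbad
        refine ih (by omega) ?_
        have := hc (r - (d + 1)) (by omega) (by omega) hbad
        rwa [show r - (d + 1) + 1 = r - d by omega] at this
    have := hdown (r - 1) (by have := hr.pos; omega)
    rw [show r - (r - 1) = 1 by have := hr.pos; omega] at this
    exact this (not_good_one hm hT hns)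
  unfold GoodDim at hbad
  push Not at hbad
  obtain ⟨v, hv, U₀, hU₀, hdim, h, hh, hfix, y, hy, hhy⟩ := hbad
  have hyU : y ∉ U₀ := fun hyU => hhy (by rw [hfix y hyU]; exact hy)
  set W₀ := U₀ ⊔ Submodule.span F {y} with hW₀
  have hW₀le : W₀ ≤ line K v :=
    sup_le hU₀ (by rw [Submodule.span_singleton_le_iff_mem]; exact hy)
  have hW₀dim : Module.finrank F W₀ = j + 1 := by
    rw [hW₀, Submodule.finrank_sup_span_singleton hyU, hdim]
  set M' := (line K v).map (mvLin h) with hM'
  have hM'dim : Module.finrank F M' = r := by rw [hM', finrank_map_mv, finrank_line hv]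
  -- the moved line meets the line in U₀
  have hinf : ∀ x ∈ M', x ∈ line K v → x ∈ U₀ := by
    intro x hx hxL
    by_contra hxU
    obtain ⟨x', hx', rfl⟩ := mem_map_mv.1 hx
    set U' := U₀ ⊔ Submodule.span F {x'} with hU'
    have hx'U : x' ∉ U₀ := fun hm' => hxU (by rwa [hfix x' hm'])
    have hle : U' ≤ line K v :=
      sup_le hU₀ (by rw [Submodule.span_singleton_le_iff_mem]; exact hx')
    have hd : Module.finrank F U' = j + 1 := by
      rw [hU', Submodule.finrank_sup_span_singleton hx'U, hdim]
    have heq : M' = line K v := by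
      refine eq_line hT hv (U := U₀ ⊔ Submodule.span F {mv h x'})
        (sup_le hU₀ (by rw [Submodule.span_singleton_le_iff_mem]; exact hxL)) hM'dim
        fun a ha hfa z hz => ?_
      obtain ⟨z', hz', rfl⟩ := mem_map_mv.1 hz
      refine mem_map_mv.2 ⟨mv (h⁻¹ * a * h) z', ?_, by rw [mv_mul, mv_mul, mv_mv_inv]⟩
      refine hgood v hv U' hle hd _ (M.mul_mem (M.mul_mem (M.inv_mem hh) ha) hh) (fun u hu => ?_) z' hz'
      rw [hU'] at hu
      obtain ⟨u₁, hu₁, w, hw, rfl⟩ := Submodule.mem_sup.1 hu
      obtain ⟨t, rfl⟩ := Submodule.mem_span_singleton.1 hw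
      rw [mv_mul, mv_mul]
      refine (mv_eq_iff h⁻¹).2 ?_
      rw [inv_inv]
      exact hfa _ (by
        rw [mv_add, mv_smul, hfix u₁ hu₁]
        exact Submodule.add_mem_sup hu₁ (Submodule.smul_mem _ t (Submodule.mem_span_singleton_self _)))
    exact hhy (heq ▸ mem_map_mv.2 ⟨y, hy, rfl⟩)
  -- the moved line lies in U₀ + F (h y)
  have hM'le : M' ≤ U₀ ⊔ Submodule.span F {mv h y} := by
    have hscal : ∀ φ : Module.Dual K (ι → F), (∀ w ∈ line K v, φ w = 0) → φ (mv h y) = 1 →
        ∀ z ∈ M', φ z ∈ (⊥ : Subalgebra F K) := by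
      intro φ hφ hφe z hz
      by_contra hnot
      have hstab : ∀ u ∈ U₀, φ z • u ∈ U₀ := by
        intro u hu
        have huL := hU₀ hu
        obtain ⟨τ, hτ⟩ : ∃ τ, τ = ktv u φ (hφ u huL) := ⟨_, rfl⟩
        obtain ⟨t, ht⟩ : ∃ t, t = h⁻¹ * τ * h := ⟨_, rfl⟩
        have htW : ∀ w ∈ W₀, mv t w ∈ W₀ := by
          intro w hw
          rw [hW₀] at hw ⊢
          obtain ⟨u₁, hu₁, w₁, hw₁, rfl⟩ := Submodule.mem_sup.1 hw
          obtain ⟨a, rfl⟩ := Submodule.mem_span_singleton.1 hw₁
          have e1 : φ (mv h (u₁ + a • y)) = algebraMap F K a := by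
            rw [mv_add, mv_smul, hfix u₁ hu₁, map_add, hφ u₁ (hU₀ hu₁), zero_add,
              ← IsScalarTower.algebraMap_smul K a (mv h y), map_smul, hφe, smul_eq_mul, mul_one]
          have e : mv t (u₁ + a • y) = (u₁ + a • u) + a • y := by
            rw [ht, hτ, mv_mul, mv_mul]
            refine (mv_eq_iff h⁻¹).2 ?_
            rw [inv_inv, mv_ktv, e1, IsScalarTower.algebraMap_smul]
            simp only [mv_add, mv_smul, hfix u₁ hu₁, hfix u hu]
            abel
          rw [e]
          exact Submodule.add_mem_sup (add_mem hu₁ (U₀.smul_mem a hu))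
            (Submodule.smul_mem _ a (Submodule.mem_span_singleton_self _))
        have htmap : W₀.map (mvLin t) = W₀ := by
          refine Submodule.eq_of_le_of_finrank_eq ?_ (finrank_map_mv t W₀)
          rintro x hx
          obtain ⟨w, hw, rfl⟩ := mem_map_mv.1 hx
          exact htW w hw
        have htM : t ∈ M := by
          rw [ht, hτ]
          exact M.mul_mem (M.mul_mem (M.inv_mem hh) (hT _ _ _)) hh
        have htL : (line K v).map (mvLin t) = line K v := by
          refine eq_line hT hv hW₀le (by rw [finrank_map_mv, finrank_line hv]) fun a ha hfa x hx => ?_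
          obtain ⟨x', hx', rfl⟩ := mem_map_mv.1 hx
          refine mem_map_mv.2 ⟨mv (t⁻¹ * a * t) x', ?_, by rw [mv_mul, mv_mul, mv_mv_inv]⟩
          refine hgood v hv W₀ hW₀le hW₀dim _ (M.mul_mem (M.mul_mem (M.inv_mem htM) ha) htM)
            (fun w hw => ?_) x' hx'
          rw [mv_mul, mv_mul, hfa _ (htW w hw), mv_inv_mv]
        obtain ⟨z', hz', rfl⟩ := mem_map_mv.1 hz
        have hτz : mv τ (mv h z') ∈ M' := by
          refine mem_map_mv.2 ⟨mv t z', htL ▸ mem_map_mv.2 ⟨z', hz', rfl⟩, ?_⟩
          rw [ht, mv_mul, mv_mul, mv_mv_inv]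
        rw [hτ, mv_ktv] at hτz
        refine hinf _ ?_ (smul_mem_line huL _)
        simpa using M'.sub_mem hτz (mem_map_mv.2 ⟨z', hz', rfl⟩ : mv h z' ∈ M')
      have hall := smul_stable (by rwa [← hrdef]) hnot hstab
      obtain ⟨u, hu, hu0⟩ : ∃ u ∈ U₀, u ≠ 0 := Submodule.exists_mem_ne_zero_of_ne_bot fun hb => by
        rw [hb, finrank_bot] at hdim
        omega
      have : line K v ≤ U₀ := by
        rw [← line_eq (hU₀ hu) hu0]
        intro x hx
        obtain ⟨l, rfl⟩ := mem_line.1 hx
        exact hall l u hu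
      exact hyU (this hy)
    obtain ⟨φ, hφ, hφe⟩ := exists_kdual (W := Submodule.span K {v}) (z := mv h y) hhy
    intro z hz
    obtain ⟨a, ha⟩ := Algebra.mem_bot.1 (hscal φ hφ hφe z hz)
    set z' := z - a • mv h y with hz'
    have hz'M : z' ∈ M' := sub_mem hz (M'.smul_mem a (mem_map_mv.2 ⟨y, hy, rfl⟩))
    have hφz' : φ z' = 0 := by
      rw [hz', map_sub, ← IsScalarTower.algebraMap_smul K a (mv h y), map_smul, hφe, smul_eq_mul,
        mul_one, ha, sub_self]
    have hz'L : z' ∈ Submodule.span K {v} ⊔ Submodule.span K {mv h y} := by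
      by_contra hnot
      obtain ⟨ψ, hψ, hψz⟩ := exists_kdual hnot
      obtain ⟨k, hk⟩ : ∃ k : K, k ∉ (⊥ : Subalgebra F K) := by
        by_contra hc
        push Not at hc
        exact hr.one_lt.ne'
          (Subalgebra.bot_eq_top_iff_finrank_eq_one.1 (eq_top_iff.2 fun x _ => hc x))
      refine hk ?_
      have := hscal (φ + k • ψ)
        (fun w hw => by simp [hφ w hw, hψ w (Submodule.mem_sup_left hw)])
        (by simp [hφe, hψ _ (Submodule.mem_sup_right (Submodule.mem_span_singleton_self _))]) z' hz'M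
      simpa [hφz', hψz] using this
    obtain ⟨l, hl, w, hw, hlw⟩ := Submodule.mem_sup.1 hz'L
    obtain ⟨b, rfl⟩ := Submodule.mem_span_singleton.1 hw
    have hb : b = 0 := by
      rw [← hlw, map_add, map_smul, hφ l hl, hφe, zero_add, smul_eq_mul, mul_one] at hφz'
      exact hφz'
    rw [hb, zero_smul, add_zero] at hlw
    rw [show z = z' + a • mv h y by rw [hz', sub_add_cancel]]
    exact Submodule.add_mem_sup (hinf z' hz'M (hlw ▸ hl))
      (Submodule.smul_mem _ a (Submodule.mem_span_singleton_self _))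
  have hjr' : r ≤ j + 1 := by
    have hnot : mv h y ∉ U₀ := fun hm' => hhy (hU₀ hm')
    have e := Submodule.finrank_mono hM'le
    rw [hM'dim, Submodule.finrank_sup_span_singleton hnot, hdim] at e
    exact e
  refine ⟨v, U₀, h, y, hv, hU₀, by omega, hh, hfix, hy, hhy, ?_⟩
  exact Submodule.eq_of_le_of_finrank_eq hW₀le (by rw [hW₀dim, finrank_line hv]; omega)

end Cfsg.Agent.FieldMax
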