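/-
In dimension at least three over K: a transvection over F in the subgroup, and all transvections with
that centre and an axis containing its line.
-/
import Cfsg.Agent.Lib.FieldMax.Flats

set_option autoImplicit false
set_option linter.unusedSectionVars false
set_option linter.style.haveILetI false

namespace Cfsg.Agent.FieldMax

open scoped Matrix
open Matrix Cfsg.Agent.Transvec

variable {ι : Type} [Fintype ι] [DecidableEq ι] {F : Type*} [Field F] [Fintype F]
variable {K : Type*} [Field K] [Algebra F K] [Module K (ι → F)] [IsScalarTower F K (ι → F)]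
variable {M : Subgroup (GL ι F)}

/-- M contains every transvection with centre u whose axis contains the line of u. -/
def AxisAll (K : Type*) [Field K] [Algebra F K] [Module K (ι → F)] (M : Subgroup (GL ι F))
    (u : ι → F) : Prop :=
  ∀ (f : Module.Dual F (ι → F)) (hf : f u = 0), (∀ k : K, f (k • u) = 0) → tv u f hf ∈ M

theorem finrank_restrict [Module.Finite F K] (W : Submodule K (ι → F)) :
    Module.finrank F (W.restrictScalars F) = Module.finrank F K * Module.finrank K W := by
  haveI : Module.Finite K (ι → F) := Module.Finite.of_restrictScalars_finite F K (ι → F)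
  exact (Module.finrank_mul_finrank F K W).symm

/-- One transvection over F with axis containing the line of its centre. -/
theorem exists_tv_mem (hr : (Module.finrank F K).Prime)
    (hm : 3 * Module.finrank F K ≤ Fintype.card ι)
    (hT : ∀ (c : ι → F) (φ : Module.Dual K (ι → F)) (h : φ c = 0), ktv c φ h ∈ M)
    (hns : ∃ g ∈ M, ¬ IsSemi K g) :
    ∃ (v : ι → F) (f : Module.Dual F (ι → F)) (hf : f v = 0), v ≠ 0 ∧ (∀ k : K, f (k • v) = 0) ∧
      f ≠ 0 ∧ tv v f hf ∈ M := by
  haveI : Module.Finite F K := Module.finite_of_finrank_pos hr.pos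
  haveI : Module.Finite K (ι → F) := Module.Finite.of_restrictScalars_finite F K (ι → F)
  obtain ⟨v, U₀, h, y, hv, hU₀, -, hh, hfix, hy, hhy, hsup⟩ :=
    exists_witness hr (le_trans (by omega) hm) hT hns
  -- a K-hyperplane containing the line and its preimage
  set W := Submodule.span K {v} ⊔ Submodule.span K {mv h⁻¹ y} with hW
  obtain ⟨z, hz⟩ : ∃ z, z ∉ W := by
    by_contra hc
    push Not at hc
    have e : W = ⊤ := Submodule.eq_top_iff'.2 hc
    have e1 := Submodule.finrank_add_le_finrank_add_finrank (Submodule.span K {v})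
      (Submodule.span K {mv h⁻¹ y})
    rw [← hW, e, finrank_top, finrank_span_singleton hv] at e1
    have e2 : Module.finrank K (Submodule.span K {mv h⁻¹ y}) ≤ 1 := by
      refine le_trans (finrank_span_le_card _) ?_
      simp
    have e3 := Module.finrank_mul_finrank F K (ι → F)
    rw [Module.finrank_fintype_fun_eq_card] at e3
    have : Module.finrank F K * Module.finrank K (ι → F) ≤ Module.finrank F K * 2 :=
      Nat.mul_le_mul_left _ (by omega)
    have := hr.pos
    omega
  obtain ⟨ψ, hψ, hψz⟩ := exists_kdual hz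
  have hψv : ψ v = 0 := hψ v (Submodule.mem_sup_left (Submodule.mem_span_singleton_self v))
  obtain ⟨φ, hφ, hφe⟩ := exists_kdual (W := Submodule.span K {v}) (z := mv h y) hhy
  have hyU : y ∉ U₀ := fun hm' => hhy (by rw [hfix y hm']; exact hy)
  obtain ⟨a₀, ha₀, ha₀y⟩ := exists_dual hyU
  have hdec : ∀ l ∈ line K v, ∃ u₁ ∈ U₀, ∃ a : F, l = u₁ + a • y := by
    intro l hl
    rw [← hsup] at hl
    obtain ⟨u₁, hu₁, w, hw, rfl⟩ := Submodule.mem_sup.1 hl
    obtain ⟨a, rfl⟩ := Submodule.mem_span_singleton.1 hw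
    exact ⟨u₁, hu₁, a, rfl⟩
  have hval : ∀ l ∈ line K v, φ (mv h l) = algebraMap F K (a₀ l) := by
    intro l hl
    obtain ⟨u₁, hu₁, a, rfl⟩ := hdec l hl
    rw [mv_add, mv_smul, hfix u₁ hu₁, map_add, hφ u₁ (hU₀ hu₁), zero_add,
      ← IsScalarTower.algebraMap_smul K a (mv h y), map_smul, hφe, smul_eq_mul, mul_one, map_add,
      ha₀ u₁ hu₁, map_smul, ha₀y, smul_eq_mul, mul_one, zero_add]
  have hpre : ∀ l ∈ line K v, ψ (mv h⁻¹ l) = 0 := by
    intro l hl
    obtain ⟨u₁, hu₁, a, rfl⟩ := hdec l hl
    refine hψ _ ?_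
    rw [mv_add, mv_smul, show mv h⁻¹ u₁ = u₁ from ((mv_eq_iff h).1 (hfix u₁ hu₁)).symm,
      ← IsScalarTower.algebraMap_smul K a (mv h⁻¹ y)]
    exact Submodule.add_mem_sup (hU₀ hu₁)
      (Submodule.smul_mem _ _ (Submodule.mem_span_singleton_self _))
  let f : Module.Dual F (ι → F) :=
    a₀.comp (((ψ.smulRight v).restrictScalars F).comp (mvLin h⁻¹))
  have hf : ∀ x, f x = a₀ (ψ (mv h⁻¹ x) • v) := fun x => rfl
  have hfL : ∀ l ∈ line K v, f l = 0 := fun l hl => by
    rw [hf, hpre l hl, zero_smul, map_zero]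
  have hfv : f v = 0 := hfL v (self_mem_line v)
  refine ⟨v, f, hfv, hv, fun k => hfL _ (smul_mem_line (self_mem_line v) k), fun hf0 => ?_, ?_⟩
  · obtain ⟨k, hk⟩ := mem_line.1 hy
    have e : f (mv h (k • z)) = 1 := by
      rw [hf, mv_inv_mv, show ψ (k • z) = k by rw [map_smul, hψz, smul_eq_mul, mul_one], hk, ha₀y]
    rw [hf0] at e
    exact zero_ne_one e
  · set A := ktv v φ (hφ v (Submodule.mem_span_singleton_self v)) with hA
    set b := h * ktv v ψ hψv * h⁻¹ with hb
    have hbx : ∀ x, mv b x = x + mv h (ψ (mv h⁻¹ x) • v) := fun x => by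
      rw [hb, mv_mul, mv_mul, mv_ktv, mv_add, mv_mv_inv]
    have key : A * b = tv v f hfv * (b * A) := by
      refine ext_mv fun x => ?_
      set Λ := ψ (mv h⁻¹ x) • v with hΛ
      have hΛL : Λ ∈ line K v := smul_mem_line (self_mem_line v) _
      have hkill : ψ (mv h⁻¹ (φ x • v)) = 0 := hpre _ (smul_mem_line (self_mem_line v) _)
      have h1 : mv (A * b) x = x + mv h Λ + φ x • v + f x • v := by
        rw [mv_mul, hA, mv_ktv, hbx, map_add, hval Λ hΛL, add_smul,
          IsScalarTower.algebraMap_smul, hf, ← hΛ, ← add_assoc]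
      have h2 : mv (b * A) x = x + φ x • v + mv h Λ := by
        rw [mv_mul, hA, mv_ktv, hbx, mv_add h⁻¹, map_add, hkill, add_zero]
      have h3 : f (x + φ x • v + mv h Λ) = f x := by
        have e : ψ (mv h⁻¹ (mv h Λ)) = 0 := by
          rw [mv_inv_mv, hΛ, map_smul, hψv, smul_zero]
        rw [map_add, map_add, hfL _ (smul_mem_line (self_mem_line v) _), add_zero, hf (mv h Λ), e,
          zero_smul, map_zero, add_zero]
      rw [h1, mv_mul, h2, mv_tv, h3]
      abel
    have hAM : A ∈ M := hT _ _ _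
    have hbM : b ∈ M := M.mul_mem (M.mul_mem hh (hT _ _ _)) (M.inv_mem hh)
    rw [show tv v f hfv = A * b * (b * A)⁻¹ by rw [key, mul_inv_cancel_right]]
    exact M.mul_mem (M.mul_mem hAM hbM) (M.inv_mem (M.mul_mem hbM hAM))

/-- From one transvection to all with the same centre and axis containing the line. -/
theorem axisAll_of_tv (hr : (Module.finrank F K).Prime)
    (hm : 3 * Module.finrank F K ≤ Fintype.card ι)
    (hT : ∀ (c : ι → F) (φ : Module.Dual K (ι → F)) (h : φ c = 0), ktv c φ h ∈ M)
    {v : ι → F} (hv : v ≠ 0) {f : Module.Dual F (ι → F)} (hf : f v = 0)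
    (hfL : ∀ k : K, f (k • v) = 0) (hf0 : f ≠ 0) (htv : tv v f hf ∈ M) : AxisAll K M v := by
  haveI : Module.Finite F K := Module.finite_of_finrank_pos hr.pos
  haveI : Module.Finite K (ι → F) := Module.Finite.of_restrictScalars_finite F K (ι → F)
  let S : AddSubgroup (Module.Dual F (ι → F)) :=
    { carrier := {g | g v = 0 ∧ ∀ hg : g v = 0, tv v g hg ∈ M}
      add_mem' := fun {g g'} hg hg' => ⟨by simp [hg.1, hg'.1], fun _ => by
        rw [← tv_mul_tv hg.1 hg'.1]
        exact M.mul_mem (hg.2 _) (hg'.2 _)⟩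
      zero_mem' := ⟨rfl, fun _ => by rw [tv_zero]; exact M.one_mem⟩
      neg_mem' := fun {g} hg => ⟨by simp [hg.1], fun _ => by
        rw [← tv_inv hg.1]
        exact M.inv_mem (hg.2 _)⟩ }
  set L := Submodule.span K {v} with hL
  -- all functionals killing the line and a further suitable line
  have hstep : ∀ c : ι → F, (∃ k : K, f (k • c) ≠ 0) → ∀ g : Module.Dual F (ι → F),
      g ∈ ((L ⊔ Submodule.span K {c}).restrictScalars F).dualAnnihilator → g ∈ S := by
    rintro c ⟨k₀, hk₀⟩ g hg
    set W := L ⊔ Submodule.span K {c} with hW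
    let T : (W.dualAnnihilator.restrictScalars F) →ₗ[F] Module.Dual F (ι → F) :=
      { toFun := fun φ => f.comp ((φ.1.smulRight c).restrictScalars F)
        map_add' := fun a b => LinearMap.ext fun x => by
          show f ((a.1 x + b.1 x) • c) = f (a.1 x • c) + f (b.1 x • c)
          rw [add_smul, map_add]
        map_smul' := fun t a => LinearMap.ext fun x => by
          show f ((t • a.1 x) • c) = t • f (a.1 x • c)
          rw [smul_assoc, map_smul] }
    have hT_inj : Function.Injective T := by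
      intro φ φ' he
      refine Subtype.ext (LinearMap.ext fun x => ?_)
      by_contra hx
      refine hk₀ ?_
      set l := k₀ * (φ.1 x - φ'.1 x)⁻¹ with hl
      have e : f (φ.1 (l • x) • c) = f (φ'.1 (l • x) • c) := DFunLike.congr_fun he (l • x)
      have e2 : φ.1 (l • x) - φ'.1 (l • x) = k₀ := by
        rw [LinearMap.map_smul, LinearMap.map_smul, ← smul_sub, smul_eq_mul, hl,
          inv_mul_cancel_right₀ (sub_ne_zero.2 hx)]
      rw [← sub_eq_zero, ← map_sub, ← sub_smul, e2] at e
      exact e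
    have hdim : Module.finrank F (W.dualAnnihilator.restrictScalars F) =
        Module.finrank F (W.restrictScalars F).dualAnnihilator := by
      have e1 := Subspace.finrank_add_finrank_dualAnnihilator_eq W
      have e2 := Subspace.finrank_add_finrank_dualAnnihilator_eq (W.restrictScalars F)
      have e3 := Module.finrank_mul_finrank F K (ι → F)
      have e4 := finrank_restrict (F := F) W
      have e5 : Module.finrank F K * Module.finrank K W.dualAnnihilator =
          Module.finrank F (W.dualAnnihilator.restrictScalars F) := by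
        haveI := @Module.Free.of_divisionRing K W.dualAnnihilator _ W.dualAnnihilator.addCommGroup W.dualAnnihilator.module
        exact Module.finrank_mul_finrank F K W.dualAnnihilator
      rw [← e1, mul_add] at e3
      omega
    have hrange : LinearMap.range T = (W.restrictScalars F).dualAnnihilator := by
      refine Submodule.eq_of_le_of_finrank_eq ?_ ((LinearMap.finrank_range_of_inj hT_inj).trans hdim)
      rintro _ ⟨φ, rfl⟩
      refine (Submodule.mem_dualAnnihilator _).2 fun w hw => ?_
      show f (φ.1 w • c) = 0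
      rw [(Submodule.mem_dualAnnihilator φ.1).1 φ.2 w hw, zero_smul, map_zero]
    obtain ⟨φ, hφ⟩ := hrange.ge hg
    have hg' : g = f.comp ((φ.1.smulRight c).restrictScalars F) := hφ.symm
    have hφW := (Submodule.mem_dualAnnihilator φ.1).1 φ.2
    have hφc : φ.1 c = 0 := hφW c (Submodule.mem_sup_right (Submodule.mem_span_singleton_self c))
    have hφv : φ.1 v = 0 := hφW v (Submodule.mem_sup_left (Submodule.mem_span_singleton_self v))
    set τ := ktv c φ.1 hφc with hτ
    have hτv : mv τ v = v := ktv_fix _ hφv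
    have hcomp : (f.comp (mvLin τ)) v = 0 := by
      show f (Matrix.toLin' (τ : Matrix ι ι F) v) = 0
      rw [Matrix.toLin'_apply]
      show f (mv τ v) = 0
      rw [hτv, hf]
    have hmem : f.comp (mvLin τ) ∈ S := by
      refine ⟨hcomp, fun hh => ?_⟩
      rw [← tv_conj hf τ⁻¹ hh ((mv_eq_iff τ).1 hτv) fun x => ?_]
      · exact M.mul_mem (M.mul_mem (M.inv_mem (hT _ _ _)) htv) (M.inv_mem (M.inv_mem (hT _ _ _)))
      · show f (Matrix.toLin' (τ : Matrix ι ι F) (mv τ⁻¹ x)) = f x
        rw [Matrix.toLin'_apply]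
        exact congrArg f (mv_mv_inv τ x)
    have hfS : f ∈ S := ⟨hf, fun _ => htv⟩
    have hdiff : g = f.comp (mvLin τ) - f := LinearMap.ext fun x => by
      rw [hg']
      show f (φ.1 x • c) = f (Matrix.toLin' (τ : Matrix ι ι F) x) - f x
      rw [Matrix.toLin'_apply, show (τ : Matrix ι ι F) *ᵥ x = x + φ.1 x • c from mv_ktv hφc x, map_add,
        add_sub_cancel_left]
    rw [hdiff]
    exact S.sub_mem hmem hfS
  -- two such lines
  obtain ⟨c₀, hc₀⟩ : ∃ x, f x ≠ 0 := by
    by_contra hc
    push Not at hc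
    exact hf0 (LinearMap.ext hc)
  obtain ⟨b, hb⟩ : ∃ b, b ∉ L ⊔ Submodule.span K {c₀} := by
    by_contra hc
    push Not at hc
    have e : L ⊔ Submodule.span K {c₀} = ⊤ := Submodule.eq_top_iff'.2 hc
    have e1 := Submodule.finrank_add_le_finrank_add_finrank L (Submodule.span K {c₀})
    have hc0' : c₀ ≠ 0 := fun h => hc₀ (by rw [h, map_zero])
    rw [e, finrank_top, hL, finrank_span_singleton hv, finrank_span_singleton hc0'] at e1
    have e3 := Module.finrank_mul_finrank F K (ι → F)
    rw [Module.finrank_fintype_fun_eq_card] at e3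
    have : Module.finrank F K * Module.finrank K (ι → F) ≤ Module.finrank F K * 2 :=
      Nat.mul_le_mul_left _ (by omega)
    have := hr.pos
    omega
  obtain ⟨c₁, hc₁, hc₁f⟩ : ∃ c₁, c₁ ∉ L ⊔ Submodule.span K {c₀} ∧ ∃ k : K, f (k • c₁) ≠ 0 := by
    by_cases hbf : ∃ k : K, f (k • b) ≠ 0
    · exact ⟨b, hb, hbf⟩
    push Not at hbf
    refine ⟨b + c₀, fun hm' => hb ?_, 1, ?_⟩
    · simpa using Submodule.sub_mem _ hm'
        (Submodule.mem_sup_right (Submodule.mem_span_singleton_self c₀) :
          c₀ ∈ L ⊔ Submodule.span K {c₀})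
    · rw [smul_add, map_add, hbf 1, zero_add, one_smul]
      exact hc₀
  have hc₀f : ∃ k : K, f (k • c₀) ≠ 0 := ⟨1, by rwa [one_smul]⟩
  have hinf : (L ⊔ Submodule.span K {c₀}).restrictScalars F ⊓
      (L ⊔ Submodule.span K {c₁}).restrictScalars F = L.restrictScalars F := by
    refine le_antisymm (fun x hx => ?_) (le_inf (fun x hx => Submodule.mem_sup_left hx)
      (fun x hx => Submodule.mem_sup_left hx))
    obtain ⟨hx0, hx1⟩ := hx
    obtain ⟨l, hl, w, hw, rfl⟩ := Submodule.mem_sup.1 (show x ∈ L ⊔ Submodule.span K {c₁} from hx1)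
    obtain ⟨k, rfl⟩ := Submodule.mem_span_singleton.1 hw
    rcases eq_or_ne k 0 with rfl | hk
    · rw [zero_smul, add_zero]; exact hl
    refine absurd ?_ hc₁
    have e : k • c₁ ∈ L ⊔ Submodule.span K {c₀} := by
      simpa using Submodule.sub_mem _ (show l + k • c₁ ∈ L ⊔ Submodule.span K {c₀} from hx0)
        (Submodule.mem_sup_left hl : l ∈ L ⊔ Submodule.span K {c₀})
    simpa [smul_smul, inv_mul_cancel₀ hk] using Submodule.smul_mem _ k⁻¹ e
  intro g hg hgL
  have hmem : g ∈ (L.restrictScalars F).dualAnnihilator := (Submodule.mem_dualAnnihilator g).2 fun w hw => by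
    obtain ⟨k, rfl⟩ := Submodule.mem_span_singleton.1 hw
    exact hgL k
  rw [← hinf, Subspace.dualAnnihilator_inf_eq] at hmem
  obtain ⟨g₁, h₁, g₂, h₂, hsum⟩ := Submodule.mem_sup.1 hmem
  have hgS : g ∈ S := hsum ▸ S.add_mem (hstep c₀ hc₀f g₁ h₁) (hstep c₁ hc₁f g₂ h₂)
  exact hgS.2 hg

end Cfsg.Agent.FieldMax
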