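/-
The case of GL₄(2): nothing lies strictly between the semilinear group over the field of four elements and
the whole group.
-/
import Cfsg.Agent.Lib.FieldMax.Setup
import Cfsg.Agent.Lib.GLFourTwo.Heptads
import Cfsg.Agent.Lib.GLFourTwo.SubgroupsBase
import Mathlib.LinearAlgebra.Matrix.GeneralLinearGroup.Card

set_option autoImplicit false
set_option linter.unusedSectionVars false
set_option linter.style.haveILetI false

namespace Cfsg.Agent.FieldMax

open scoped Matrix
open Matrix Cfsg.Agent.Transvec

theorem gl_det_two {n : Type} [Fintype n] [DecidableEq n] (g : GL n (ZMod 2)) :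
    (g : Matrix n n (ZMod 2)).det = 1 := by
  have hone : ∀ c : (ZMod 2)ˣ, c = 1 := by decide
  rw [← Matrix.GeneralLinearGroup.val_det_apply, hone (Matrix.GeneralLinearGroup.det g), Units.val_one]

/-- A general linear group without determinants is the special linear group. -/
noncomputable def glEquivSL {n : Type} [Fintype n] [DecidableEq n] {R : Type*} [CommRing R]
    (h : ∀ g : GL n R, (g : Matrix n n R).det = 1) : GL n R ≃* Matrix.SpecialLinearGroup n R :=
  MonoidHom.toMulEquiv
    (MonoidHom.mk' (fun g => (⟨(g : Matrix n n R), h g⟩ : Matrix.SpecialLinearGroup n R))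
      fun _ _ => Subtype.ext (Units.val_mul _ _))
    Matrix.SpecialLinearGroup.toGL
    (MonoidHom.ext fun _ => Units.ext rfl) (MonoidHom.ext fun _ => Subtype.ext rfl)

variable {ι : Type} [Fintype ι] [DecidableEq ι] {F : Type*} [Field F]

theorem exists_gl_four_two_equiv [Fintype F] (hι : Fintype.card ι = 4) (hF : Fintype.card F = 2) :
    Nonempty (GL ι F ≃* alternatingGroup (Fin 8)) := by
  obtain ⟨eι⟩ : Nonempty (ι ≃ Fin 4) := ⟨Fintype.equivFinOfCardEq hι⟩
  obtain ⟨eF⟩ : Nonempty (F ≃+* ZMod 2) := ⟨(ZMod.ringEquivOfPrime F Nat.prime_two hF).symm⟩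
  obtain ⟨e1⟩ : Nonempty (GL ι F ≃* GL (Fin 4) (ZMod 2)) := ⟨Units.mapEquiv
    (((Matrix.reindexAlgEquiv F F eι).toRingEquiv.trans eF.mapMatrix).toMulEquiv)⟩
  exact ⟨e1.trans ((glEquivSL gl_det_two).trans GLFourTwo.slEquivAlt)⟩

/-- A permutation of seven points of order dividing fifteen has order dividing five or three. -/
theorem perm_seven_fifteen (σ : Equiv.Perm (Fin 7)) : orderOf σ ≠ 15 := by
  intro h
  have h1 := Equiv.Perm.lcm_cycleType σ
  have h2 : σ.cycleType.sum ≤ 7 := by simpa using Equiv.Perm.sum_cycleType_le σ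
  rw [h] at h1
  by_cases h5 : ∃ n ∈ σ.cycleType, 5 ∣ n
  · obtain ⟨n, hn, h5n⟩ := h5
    have hn15 : n ∣ 15 := h1 ▸ Multiset.dvd_lcm hn
    by_cases h3 : ∃ m ∈ σ.cycleType, 3 ∣ m
    · obtain ⟨m, hm, h3m⟩ := h3
      have hn2 := Equiv.Perm.two_le_of_mem_cycleType hn
      have hm2 := Equiv.Perm.two_le_of_mem_cycleType hm
      by_cases hnm : n = m
      · subst hnm
        have : 15 ∣ n := Nat.Coprime.mul_dvd_of_dvd_of_dvd (by norm_num : Nat.Coprime 5 3) h5n h3m
        have := Nat.le_of_dvd (by omega) this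
        have := Multiset.le_sum_of_mem hn
        omega
      · have hsum : n + m ≤ σ.cycleType.sum := by
          obtain ⟨t, ht⟩ := Multiset.exists_cons_of_mem hn
          have hm' : m ∈ t := by
            rw [ht, Multiset.mem_cons] at hm
            exact hm.resolve_left (Ne.symm hnm)
          have := Multiset.le_sum_of_mem hm'
          rw [ht, Multiset.sum_cons]
          omega
        have := Nat.le_of_dvd (by omega) h5n
        have := Nat.le_of_dvd (by omega) h3m
        omega
    · push Not at h3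
      have hall : ∀ m ∈ σ.cycleType, m ∣ 5 := fun m hm => by
        have hm15 : m ∣ 15 := h1 ▸ Multiset.dvd_lcm hm
        exact (Nat.Coprime.dvd_mul_left ((Nat.prime_three.coprime_iff_not_dvd.2 (h3 m hm)).symm)).1 hm15
      have := h1 ▸ (Multiset.lcm_dvd.2 hall : σ.cycleType.lcm ∣ 5)
      norm_num at this
  · push Not at h5
    have hall : ∀ m ∈ σ.cycleType, m ∣ 3 := fun m hm => by
      have hm15 : m ∣ 15 := h1 ▸ Multiset.dvd_lcm hm
      exact (Nat.Coprime.dvd_mul_right ((Nat.prime_five.coprime_iff_not_dvd.2 (h5 m hm)).symm)).1 hm15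
    have := h1 ▸ (Multiset.lcm_dvd.2 hall : σ.cycleType.lcm ∣ 3)
    norm_num at this

/-- An overgroup containing a subgroup of order 180·j, j ≥ 2, and an element of order fifteen. -/
theorem index_four_two [Fintype F] (hι : Fintype.card ι = 4) (hF : Fintype.card F = 2)
    {M N : Subgroup (GL ι F)} (hNM : N ≤ M) (hM : M ≠ ⊤) {j : ℕ} (hN : Nat.card N = 180 * j)
    (hj : 2 ≤ j) {x : GL ι F} (hx : x ∈ M) (hx15 : orderOf x = 15) : N.relIndex M ≤ 4 := by
  obtain ⟨e⟩ := exists_gl_four_two_equiv hι hF
  haveI : IsSimpleGroup (alternatingGroup (Fin 8)) := alternatingGroup.isSimpleGroup (by simp)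
  haveI : IsSimpleGroup (GL ι F) := e.isSimpleGroup
  have hcard : Nat.card (GL ι F) = 20160 := by rw [Nat.card_congr e.toEquiv, A8Sub.card_alt8]
  have hinj : Function.Injective (MulAction.toPermHom (GL ι F) (GL ι F ⧸ M)) := by
    rw [← MonoidHom.ker_eq_bot_iff, ← Subgroup.normalCore_eq_ker]
    refine (Subgroup.normalCore_normal M).eq_bot_or_eq_top.resolve_right fun h => hM ?_
    exact top_le_iff.1 (h ▸ Subgroup.normalCore_le M)
  have h1 : 9 ≤ M.index := by
    by_contra hlt
    have hle : M.index ≤ 8 := by omega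
    rcases Nat.lt_or_eq_of_le hle with h7 | h8
    · have h2 := Nat.card_le_card_of_injective _ hinj
      rw [hcard, Nat.card_perm, ← Subgroup.index_eq_card] at h2
      have := Nat.factorial_le (show M.index ≤ 7 by omega)
      rw [show Nat.factorial 7 = 5040 from rfl] at this
      omega
    · obtain ⟨f, hf⟩ := A8Sub.exists_hom_point (n := 7) M h8 hinj
      refine perm_seven_fifteen (f ⟨x, hx⟩) ?_
      rw [orderOf_injective f hf, Subgroup.orderOf_mk, hx15]
  have hmul := M.card_mul_index
  have hrel : Nat.card N * N.relIndex M = Nat.card M := by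
    refine Nat.eq_of_mul_eq_mul_right (show 0 < M.index by omega) ?_
    rw [mul_assoc, Subgroup.relIndex_mul_index hNM, N.card_mul_index, hmul]
  rw [hcard] at hmul
  set d := N.relIndex M
  rw [hN] at hrel
  have hdvd : j * d ∣ 112 := by
    refine ⟨M.index, Nat.eq_of_mul_eq_mul_left (show 0 < 180 by norm_num) ?_⟩
    rw [← mul_assoc, ← mul_assoc, hrel, hmul]
  have hle : j * d * 180 * 9 ≤ 20160 := by
    rw [← hmul, ← hrel, show 180 * j * d = j * d * 180 by ring]
    exact Nat.mul_le_mul_left _ h1
  have h6 : d ≤ 6 := by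
    have := Nat.mul_le_mul_right d hj
    nlinarith
  have hd : d ∣ 112 := dvd_trans ⟨j, mul_comm _ _⟩ hdvd
  interval_cases d <;> first | omega | norm_num at hd

end Cfsg.Agent.FieldMax
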