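/-
Overgroups of the semilinear group of dimension two over the field of four elements in GL₄(2).
-/
import Cfsg.Agent.Lib.FieldMax.GFour

set_option autoImplicit false
set_option linter.unusedSectionVars false
set_option linter.style.haveILetI false

namespace Cfsg.Agent.FieldMax

open scoped Matrix
open Matrix Cfsg.Agent.Transvec

variable {ι : Type} [Fintype ι] [DecidableEq ι] {F : Type*} [Field F]
variable {K : Type*} [Field K] [Algebra F K] [Module K (ι → F)] [IsScalarTower F K (ι → F)]

/-- Matrices over K as matrices over F, through a K-basis. -/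
noncomputable def basisMat (b : Module.Basis (Fin 2) K (ι → F)) :
    Matrix (Fin 2) (Fin 2) K →* Matrix ι ι F where
  toFun A := LinearMap.toMatrix' ((Matrix.toLinAlgEquiv b A).restrictScalars F)
  map_one' := Matrix.ext_of_mulVec_single fun i => by
    rw [LinearMap.toMatrix'_mulVec, map_one, Matrix.one_mulVec]; rfl
  map_mul' A B := Matrix.ext_of_mulVec_single fun i => by
    rw [← Matrix.mulVec_mulVec, LinearMap.toMatrix'_mulVec, LinearMap.toMatrix'_mulVec,
      LinearMap.toMatrix'_mulVec, map_mul]
    rfl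

/-- GL₂ over K inside GL over F. -/
noncomputable def basisHom (b : Module.Basis (Fin 2) K (ι → F)) : GL (Fin 2) K →* GL ι F :=
  Units.map (basisMat b)

theorem mv_basisHom (b : Module.Basis (Fin 2) K (ι → F)) (A : GL (Fin 2) K) (x : ι → F) :
    mv (basisHom b A) x = Matrix.toLinAlgEquiv b (A : Matrix (Fin 2) (Fin 2) K) x :=
  LinearMap.toMatrix'_mulVec _ _

theorem basisHom_klin (b : Module.Basis (Fin 2) K (ι → F)) (A : GL (Fin 2) K) :
    IsKLin K (basisHom b A) := fun k v => by rw [mv_basisHom, mv_basisHom, map_smul]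

theorem basisHom_injective (b : Module.Basis (Fin 2) K (ι → F)) :
    Function.Injective (basisHom b) := by
  intro A B h
  refine Units.ext ((Matrix.toLinAlgEquiv b).injective (LinearMap.ext fun x => ?_))
  rw [← mv_basisHom, ← mv_basisHom, h]

/-- A matrix with X² = wX + 1 and w² + w + 1 = 0 in characteristic two has order dividing five. -/
theorem pow_five_of_sq {n : Type} [Fintype n] [DecidableEq n] (X : Matrix n n K) (w : K)
    (h2 : (2 : K) = 0) (hw : w * w + w + 1 = 0) (h : X * X = w • X + 1) : X ^ 5 = 1 := by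
  have e1 : X ^ 5 = (w * w * w * w + 3 * (w * w) + 1) • X + (w * w * w + 2 * w) • 1 := by
    simp only [pow_succ, pow_zero, one_mul, h, add_mul, smul_mul_assoc, smul_add, smul_smul,
      mul_assoc]
    module
  rw [e1, show w * w * w * w + 3 * (w * w) + 1 = 0 by
      linear_combination (w * w - w + 3) * hw - (w + 1) * h2,
    show w * w * w + 2 * w = 1 by linear_combination (w - 1) * hw + w * h2, zero_smul, zero_add,
    one_smul]

/-- The matrix [[a, 1], [1, c]]. -/
def fiveMat (a c : K) : Matrix (Fin 2) (Fin 2) K := !![a, 1; 1, c]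

theorem fiveMat_sq (a c : K) (hac : a = 0 ∨ c = 0) :
    fiveMat a c * fiveMat a c = (a + c) • fiveMat a c + 1 := by
  rcases hac with rfl | rfl <;>
    (ext i j; fin_cases i <;> fin_cases j <;>
      simp [fiveMat, Matrix.mul_apply, Fin.sum_univ_two] <;> ring)

/-- A member of order dividing five. -/
def fiveUnit (a c : K) (h : fiveMat a c ^ 5 = 1) : GL (Fin 2) K :=
  ⟨fiveMat a c, fiveMat a c ^ 4, by rw [← pow_succ', h], by rw [← pow_succ, h]⟩

theorem fiveUnit_pow (a c : K) (h : fiveMat a c ^ 5 = 1) : fiveUnit a c h ^ 5 = 1 :=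
  Units.ext (by rw [Units.val_pow_eq_pow_val]; exact h)

/-- A map commuting with every transvection over K is multiplication by an element of K. -/
theorem exists_smul_of_commute_ktv (hm : 2 * Module.finrank F K ≤ Fintype.card ι)
    (hr : 0 < Module.finrank F K) (X : (ι → F) →ₗ[F] ι → F)
    (hX : ∀ (c : ι → F) (φ : Module.Dual K (ι → F)) (h : φ c = 0) (x : ι → F),
      X (mv (ktv c φ h) x) = mv (ktv c φ h) (X x)) : ∃ k : K, ∀ x, X x = k • x := by
  have hkey : ∀ (c : ι → F) (φ : Module.Dual K (ι → F)), φ c = 0 → ∀ x, X (φ x • c) = φ (X x) • c := by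
    intro c φ h x
    have e := hX c φ h x
    rw [mv_ktv, mv_ktv, map_add] at e
    exact add_left_cancel e
  have hout : ∀ c : ι → F, c ≠ 0 → ∃ z, z ∉ Submodule.span K {c} := by
    intro c hc
    by_contra hno
    push Not at hno
    haveI : Module.Finite F K := Module.finite_of_finrank_pos hr
    have e3 := Module.finrank_mul_finrank F K (ι → F)
    have e : Submodule.span K {c} = ⊤ := Submodule.eq_top_iff'.2 hno
    rw [Module.finrank_fintype_fun_eq_card, ← finrank_top (R := K) (M := ι → F), ← e,
      finrank_span_singleton hc] at e3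
    omega
  have hpair : ∀ c z : ι → F, c ≠ 0 → z ∉ Submodule.span K {c} → ∃ a : K, X c = a • c := by
    intro c z hc hz
    obtain ⟨φ, hφ, hφz⟩ := exists_kdual hz
    refine ⟨φ (X z), ?_⟩
    have := hkey c φ (hφ c (Submodule.mem_span_singleton_self c)) z
    rwa [hφz, one_smul] at this
  have heq : ∀ c z : ι → F, c ≠ 0 → z ∉ Submodule.span K {c} → ∀ a b : K,
      X c = a • c → X z = b • z → a = b := by
    intro c z hc hz a b ha hb
    obtain ⟨φ, hφ, hφz⟩ := exists_kdual hz
    have := hkey c φ (hφ c (Submodule.mem_span_singleton_self c)) z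
    rw [hφz, one_smul, ha, hb, map_smul, hφz, smul_eq_mul, mul_one] at this
    exact smul_left_injective K hc this
  by_cases hall : ∀ v : ι → F, v = 0
  · exact ⟨0, fun x => by rw [hall x, map_zero, smul_zero]⟩
  push Not at hall
  obtain ⟨c₀, hc₀⟩ := hall
  obtain ⟨z₀, hz₀⟩ := hout c₀ hc₀
  obtain ⟨a, ha⟩ := hpair c₀ z₀ hc₀ hz₀
  refine ⟨a, fun x => ?_⟩
  rcases eq_or_ne x 0 with rfl | hx
  · rw [map_zero, smul_zero]
  obtain ⟨z, hz⟩ := hout x hx
  obtain ⟨b, hb⟩ := hpair x z hx hz
  by_cases hxc : x ∈ Submodule.span K {c₀}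
  · obtain ⟨k, rfl⟩ := Submodule.mem_span_singleton.1 hxc
    have hk : k ≠ 0 := fun h => hx (by rw [h, zero_smul])
    have hzc : z₀ ∉ Submodule.span K {k • c₀} := by
      rwa [Submodule.span_singleton_smul_eq (IsUnit.mk0 k hk)]
    have hz0' : z₀ ≠ 0 := fun h => hz₀ (h ▸ Submodule.zero_mem _)
    obtain ⟨z', hz'⟩ := hout z₀ hz0'
    obtain ⟨d, hd⟩ := hpair z₀ z' hz0' hz'
    rw [hb, heq _ z₀ hx hzc b d hb hd, heq c₀ z₀ hc₀ hz₀ a d ha hd]
  · rw [hb, heq c₀ x hc₀ hxc a b ha hb]

/-- The case of four dimensions over two elements. -/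
theorem small_case [Fintype F] {N M : Subgroup (GL ι F)} (hmem : ∀ g, g ∈ N ↔ IsSemi K g)
    (hNM : N ≤ M) (hι : Fintype.card ι = 4) (hK : Module.finrank F K = 2) (hF : Fintype.card F = 2)
    (hns : ∃ g ∈ M, ¬ IsSemi K g) : M = ⊤ := by
  by_contra hM
  haveI : Module.Finite F K := Module.finite_of_finrank_pos (by omega)
  haveI : Finite K := Module.finite_of_finite F
  haveI : Module.Finite K (ι → F) := Module.Finite.of_restrictScalars_finite F K (ι → F)
  letI := Fintype.ofFinite K
  have hV : Module.finrank K (ι → F) = 2 := by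
    have e3 := Module.finrank_mul_finrank F K (ι → F)
    rw [Module.finrank_fintype_fun_eq_card, hK, hι] at e3
    omega
  have hK4 : Fintype.card K = 4 := by
    rw [Module.card_eq_pow_finrank (K := F), hK, hF]; rfl
  have hF2 : ∀ c : F, c = 0 ∨ c = 1 := by
    intro c
    by_contra hc
    push Not at hc
    have : 2 < Fintype.card F := Fintype.two_lt_card_iff.2 ⟨0, 1, c, zero_ne_one, Ne.symm hc.1, Ne.symm hc.2⟩
    omega
  have h2 : (2 : K) = 0 := by
    have h : (2 : F) = 0 := by
      rcases hF2 2 with h | h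
      · exact h
      · exact absurd (show (1 : F) = 0 by linear_combination h) one_ne_zero
    rw [← map_ofNat (algebraMap F K) 2, h, map_zero]
  obtain ⟨w, hwF⟩ : ∃ w : K, w ∉ (⊥ : Subalgebra F K) := by
    by_contra hc
    push Not at hc
    have := Subalgebra.bot_eq_top_iff_finrank_eq_one.1
      (eq_top_iff.2 fun x _ => hc x : (⊥ : Subalgebra F K) = ⊤)
    omega
  have hw0 : w ≠ 0 := fun h => hwF (h ▸ Subalgebra.zero_mem _)
  have hw1 : w ≠ 1 := fun h => hwF (h ▸ Subalgebra.one_mem _)
  have hw3 : w ^ 3 = 1 := by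
    have := FiniteField.pow_card_sub_one_eq_one w hw0
    rwa [hK4] at this
  have hw : w * w + w + 1 = 0 := by
    refine (mul_eq_zero.1 (?_ : (w - 1) * (w * w + w + 1) = 0)).resolve_left (sub_ne_zero.2 hw1)
    linear_combination hw3
  have hw' : (w * w) * (w * w) + w * w + 1 = 0 := by linear_combination w * hw3 + hw
  have hA5 : fiveMat w 0 ^ 5 = 1 :=
    pow_five_of_sq _ w h2 hw (by simpa using fiveMat_sq w 0 (Or.inr rfl))
  have hB5 : fiveMat 0 (w * w) ^ 5 = 1 :=
    pow_five_of_sq _ (w * w) h2 hw' (by simpa using fiveMat_sq 0 (w * w) (Or.inl rfl))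
  have hlinN : ∀ g, IsKLin K g → g ∈ N := fun g hg => (hmem g).2 fun k => ⟨k, fun v => hg k v⟩
  obtain ⟨b⟩ : Nonempty (Module.Basis (Fin 2) K (ι → F)) :=
    ⟨(Module.finBasis K (ι → F)).reindex (finCongr hV)⟩
  -- the subgroup of linear maps has order 180
  have hle : (basisHom b).range ≤ N := by
    rintro _ ⟨A, rfl⟩
    exact hlinN _ (basisHom_klin b A)
  have hcard : Nat.card (basisHom b).range = 180 := by
    rw [← Nat.card_congr (MonoidHom.ofInjective (basisHom_injective b)).toEquiv, Matrix.card_GL_field,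
      hK4, Fin.prod_univ_two]
    rfl
  -- a semilinear map that is not linear
  obtain ⟨s, hs, hs'⟩ : ∃ s ∈ N, ¬ IsKLin K s := by
    let T : (ι → F) →ₗ[F] ι → F :=
      { toFun := fun x => ∑ i, (b.repr x i) ^ 2 • b i
        map_add' := fun x y => by
          rw [← Finset.sum_add_distrib]
          refine Finset.sum_congr rfl fun i _ => ?_
          rw [map_add, Finsupp.add_apply, ← add_smul]
          congr 1
          linear_combination (b.repr x i * b.repr y i) * h2
        map_smul' := fun c x => by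
          rcases hF2 c with rfl | rfl <;> simp }
    have hT : ∀ x i, b.repr (T x) i = (b.repr x i) ^ 2 := fun x i => by
      show b.repr (∑ j, (b.repr x j) ^ 2 • b j) i = _
      rw [Module.Basis.repr_sum_self]
    have hTT : ∀ x, T (T x) = x := fun x => b.repr.injective (Finsupp.ext fun i => by
      rw [hT, hT, ← pow_mul]
      conv_rhs => rw [← FiniteField.pow_card (b.repr x i), hK4])
    have hmat : LinearMap.toMatrix' T * LinearMap.toMatrix' T = 1 :=
      Matrix.ext_of_mulVec_single fun i => by
        rw [← Matrix.mulVec_mulVec, LinearMap.toMatrix'_mulVec, LinearMap.toMatrix'_mulVec, hTT,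
          Matrix.one_mulVec]
    let s : GL ι F := ⟨_, _, hmat, hmat⟩
    have hsx : ∀ x, mv s x = T x := fun x => LinearMap.toMatrix'_mulVec _ _
    refine ⟨s, (hmem s).2 fun k => ⟨k ^ 2, fun v => ?_⟩, fun hlin => ?_⟩
    · rw [hsx, hsx]
      refine b.repr.injective (Finsupp.ext fun i => ?_)
      rw [hT, map_smul, map_smul, Finsupp.smul_apply, Finsupp.smul_apply, hT, smul_eq_mul,
        smul_eq_mul, mul_pow]
    · have e := hlin w (b 0)
      rw [hsx, hsx] at e
      have e2 := congrArg (fun y => b.repr y 0) e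
      simp only [hT, map_smul, Finsupp.smul_apply, Module.Basis.repr_self, Finsupp.single_eq_same,
        smul_eq_mul, mul_one, one_pow] at e2
      exact hw1 (mul_left_cancel₀ hw0 (by linear_combination e2))
  obtain ⟨j, hj⟩ := Subgroup.card_dvd_of_le hle
  rw [hcard] at hj
  have hj2 : 2 ≤ j := by
    by_contra hlt
    rcases (show j = 0 ∨ j = 1 by omega) with rfl | rfl
    · rw [mul_zero] at hj
      exact absurd hj (Nat.card_pos).ne'
    · refine hs' ?_
      have : (basisHom b).range = N := Subgroup.eq_of_le_of_card_ge hle (by rw [hj, hcard])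
      obtain ⟨A, rfl⟩ := this.ge hs
      exact basisHom_klin b A
  -- an element of order fifteen
  obtain ⟨x, hxM, hx⟩ : ∃ x ∈ M, orderOf x = 15 := by
    let W : GL (Fin 2) K := Units.map (Matrix.scalar (Fin 2) : K →+* _).toMonoidHom (Units.mk0 w hw0)
    let A := fiveUnit w 0 hA5
    refine ⟨basisHom b (W * A), hNM (hlinN _ (basisHom_klin b _)), ?_⟩
    rw [orderOf_injective _ (basisHom_injective b)]
    have hcomm : Commute W A := Units.ext (Matrix.scalar_commute w (fun _ => mul_comm _ _) _).eq
    have hW : orderOf W = 3 := by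
      haveI : Fact (Nat.Prime 3) := ⟨Nat.prime_three⟩
      refine orderOf_eq_prime ?_ fun h => hw1 ?_
      · rw [← map_pow, show (Units.mk0 w hw0) ^ 3 = 1 from Units.ext (by simpa using hw3), map_one]
      · have := congrArg (fun z : GL (Fin 2) K => (z : Matrix (Fin 2) (Fin 2) K) 0 0) h
        simpa [W] using this
    have hA : orderOf A = 5 := by
      haveI : Fact (Nat.Prime 5) := ⟨Nat.prime_five⟩
      refine orderOf_eq_prime (fiveUnit_pow _ _ _) fun h => ?_
      have := congrArg (fun z : GL (Fin 2) K => (z : Matrix (Fin 2) (Fin 2) K) 0 1) h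
      simp [A, fiveUnit, fiveMat] at this
    rw [hcomm.orderOf_mul_eq_mul_orderOf_of_coprime (by rw [hW, hA]; norm_num), hW, hA]
  have hd : N.relIndex M ≤ 4 := index_four_two hι hF hNM hM hj hj2 hxM hx
  -- elements of order five are in every conjugate
  have hfive : ∀ a, a ∈ N → a ^ 5 = 1 → ∀ g ∈ M, g * a * g⁻¹ ∈ N := by
    intro a ha h5 g hg
    let π := MulAction.toPermHom M (M ⧸ N.subgroupOf M)
    have hπ : π ⟨a, hNM ha⟩ = 1 := by
      have h1 : π ⟨a, hNM ha⟩ ^ 5 = 1 := by
        rw [← map_pow, show (⟨a, hNM ha⟩ : M) ^ 5 = 1 from Subtype.ext h5, map_one]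
      have hcd : Nat.card (M ⧸ N.subgroupOf M) = N.relIndex M := rfl
      have h24 : orderOf (π ⟨a, hNM ha⟩) ∣ Nat.factorial 4 := by
        refine (orderOf_dvd_natCard _).trans ?_
        rw [Nat.card_perm, hcd]
        exact Nat.factorial_dvd_factorial hd
      have h5' := orderOf_dvd_of_pow_eq_one h1
      have := Nat.dvd_gcd h5' h24
      rw [show Nat.gcd 5 (Nat.factorial 4) = 1 by decide, Nat.dvd_one, orderOf_eq_one_iff] at this
      exact this
    have e := congrArg (fun f : Equiv.Perm _ => f ((⟨g⁻¹, M.inv_mem hg⟩ : M) : M ⧸ N.subgroupOf M)) hπ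
    simp only [Equiv.Perm.one_apply] at e
    have e' : (((⟨a, hNM ha⟩ : M) * ⟨g⁻¹, M.inv_mem hg⟩ : M) : M ⧸ N.subgroupOf M) =
        ((⟨g⁻¹, M.inv_mem hg⟩ : M) : M ⧸ N.subgroupOf M) := e
    have e'' := QuotientGroup.eq.1 e'.symm
    rw [Subgroup.mem_subgroupOf] at e''
    simpa [mul_assoc] using e''
  -- semilinear of order five is linear
  have hlin5 : ∀ a, a ∈ N → a ^ 5 = 1 → IsKLin K a := by
    intro a ha h5
    obtain ⟨w', hw'a⟩ := (hmem a).1 ha w
    have hall : ∀ k : K, k = 0 ∨ k = 1 ∨ k = w ∨ k = w * w := by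
      intro k
      by_contra hk
      push Not at hk
      have hne : w * w ≠ w := fun h => hw1 (mul_left_cancel₀ hw0 (by rw [h, mul_one]))
      have hne0 : w * w ≠ 0 := mul_ne_zero hw0 hw0
      have hne1 : w * w ≠ 1 := fun h => hw0 (by linear_combination hw - h - h2)
      classical
      have hc : ({0, 1, w, w * w, k} : Finset K).card = 5 := by
        simp [Ne.symm hw0, Ne.symm hw1, Ne.symm hne, Ne.symm hne0, Ne.symm hne1, Ne.symm hk.1,
          Ne.symm hk.2.1, Ne.symm hk.2.2.1, Ne.symm hk.2.2.2]
      have := Finset.card_le_univ ({0, 1, w, w * w, k} : Finset K)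
      omega
    have hv0 : ∃ v : ι → F, v ≠ 0 := ⟨b 0, b.ne_zero 0⟩
    obtain ⟨v, hv⟩ := hv0
    have hav : ∀ g : GL ι F, mv g v ≠ 0 := fun g h => hv (mv_inj g (by rw [h, mv_zero]))
    have hww : w' = w := by
      rcases hall w' with rfl | rfl | rfl | rfl
      · have := hw'a v
        rw [zero_smul] at this
        exact absurd (smul_eq_zero.1 (mv_inj a (this.trans (mv_zero a).symm))) (by
          rintro (h | h); exacts [hw0 h, hv h])
      · have := hw'a v
        rw [one_smul] at this
        exact absurd (smul_left_injective K hv (show w • v = (1 : K) • v by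
          rw [one_smul]; exact mv_inj a this)) hw1
      · rfl
      · exfalso
        have hflip : ∀ x, mv a (mv a (w • x)) = w • mv a (mv a x) := fun x => by
          rw [hw'a, ← smul_smul, hw'a, hw'a, smul_smul]
          congr 1
          linear_combination w * hw3
        have h5v := congrArg (fun g => mv g (w • v)) h5
        simp only [pow_succ, pow_zero, one_mul, mv_mul, mv_one] at h5v
        rw [hw'a, show mv a (mv a (mv a (mv a ((w * w) • mv a v)))) =
            (w * w) • mv a (mv a (mv a (mv a (mv a v)))) by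
          rw [← smul_smul, hflip, hflip, hflip, hflip, smul_smul]] at h5v
        have h5v' := congrArg (fun g => mv g v) h5
        simp only [pow_succ, pow_zero, one_mul, mv_mul, mv_one] at h5v'
        rw [h5v'] at h5v
        exact hw1 (mul_left_cancel₀ hw0 (by rw [mul_one]; exact smul_left_injective K hv h5v))
    intro k v
    let S : Subalgebra F K :=
      { carrier := {c | ∀ x, mv a (c • x) = c • mv a x}
        mul_mem' := fun {c d} hc hd x => by rw [← smul_smul, hc, hd, smul_smul]
        add_mem' := fun {c d} hc hd x => by rw [add_smul, mv_add, hc, hd, add_smul]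
        algebraMap_mem' := fun c x => mv_smulF_comm a c x }
    haveI := Subalgebra.isSimpleOrder_of_finrank_prime F K (hK ▸ Nat.prime_two)
    have hS : S = ⊤ := (eq_bot_or_eq_top S).resolve_left fun h => hwF (h ▸ (show w ∈ S from hww ▸ hw'a))
    exact (hS ▸ (Algebra.mem_top : k ∈ (⊤ : Subalgebra F K)) : k ∈ S) v
  -- conjugates of transvections are linear
  have hconj : ∀ (c : ι → F) (φ : Module.Dual K (ι → F)) (h : φ c = 0), ∀ g ∈ M,
      IsKLin K (g * ktv c φ h * g⁻¹) := by
    intro c φ h g hg
    by_cases htriv : c = 0 ∨ φ = 0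
    · have : ktv c φ h = 1 := ext_mv fun x => by
        rw [mv_ktv, mv_one]
        rcases htriv with h0 | h0
        · rw [h0, smul_zero, add_zero]
        · rw [h0, LinearMap.zero_apply, zero_smul, add_zero]
      rw [this, mul_one, mul_inv_cancel]
      exact fun k v => by rw [mv_one, mv_one]
    push Not at htriv
    obtain ⟨e, he⟩ : ∃ e, φ e ≠ 0 := by
      by_contra hc
      push Not at hc
      exact htriv.2 (LinearMap.ext hc)
    set e' := (φ e)⁻¹ • e with he'
    have hφe : φ e' = 1 := by rw [he', map_smul, smul_eq_mul, inv_mul_cancel₀ he]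
    have hli : LinearIndependent K ![c, e'] := by
      refine (LinearIndependent.pair_iff).2 fun p q hpq => ?_
      have hq : q = 0 := by
        have := congrArg φ hpq
        simpa [h, hφe] using this
      subst hq
      rw [zero_smul, add_zero, smul_eq_zero] at hpq
      exact ⟨hpq.resolve_right htriv.1, rfl⟩
    let bc := basisOfLinearIndependentOfCardEqFinrank hli (by rw [hV]; rfl)
    have hbc : (bc : Fin 2 → ι → F) = ![c, e'] := coe_basisOfLinearIndependentOfCardEqFinrank _ _
    set A := fiveUnit w 0 hA5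
    set B := fiveUnit 0 (w * w) hB5
    have hAB : ktv c φ h = basisHom bc A * basisHom bc B := by
      rw [← map_mul]
      refine ext_mv fun x => ?_
      rw [mv_basisHom, mv_ktv]
      have key : (LinearMap.id + φ.smulRight c : (ι → F) →ₗ[K] ι → F) =
          Matrix.toLinAlgEquiv bc ((A * B : GL (Fin 2) K) : Matrix (Fin 2) (Fin 2) K) := by
        refine bc.ext fun i => ?_
        rw [Matrix.toLinAlgEquiv_self, Fin.sum_univ_two, hbc]
        fin_cases i <;>
          simp [A, B, fiveUnit, fiveMat, Matrix.mul_apply, Fin.sum_univ_two, h, hφe]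
        rw [show w + w * w = (1 : K) by linear_combination hw - h2, one_smul, add_comm]
      exact DFunLike.congr_fun key x
    have hmemN : ∀ C, basisHom bc C ∈ N := fun C => hlinN _ (basisHom_klin bc C)
    have h5 : ∀ C : GL (Fin 2) K, C ^ 5 = 1 → IsKLin K (g * basisHom bc C * g⁻¹) := fun C hC =>
      hlin5 _ (hfive _ (hmemN C) (by rw [← map_pow, hC, map_one]) g hg) (by
        rw [conj_pow, ← map_pow, hC, map_one, mul_one, mul_inv_cancel])
    have hprod : g * ktv c φ h * g⁻¹ = (g * basisHom bc A * g⁻¹) * (g * basisHom bc B * g⁻¹) := by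
      rw [hAB]; group
    rw [hprod]
    have hA' := h5 A (fiveUnit_pow _ _ _)
    have hB' := h5 B (fiveUnit_pow _ _ _)
    generalize g * basisHom bc A * g⁻¹ = a at hA' ⊢
    generalize g * basisHom bc B * g⁻¹ = a' at hB' ⊢
    intro k v
    rw [mv_mul, mv_mul, hB', hA']
  obtain ⟨g, hg, hgns⟩ := hns
  refine hgns fun k => ?_
  obtain ⟨k', hk'⟩ := exists_smul_of_commute_ktv (K := K) (by omega) (by omega)
    ((mvLin g).comp ((DistribSMul.toLinearMap F (ι → F) k).comp (mvLin g⁻¹))) (fun c φ h x => by
      simp only [LinearMap.comp_apply, DistribSMul.toLinearMap_apply, Matrix.toLin'_apply]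
      show mv g (k • mv g⁻¹ (mv (ktv c φ h) x)) = mv (ktv c φ h) (mv g (k • mv g⁻¹ x))
      have e := hconj c φ h g⁻¹ (M.inv_mem hg)
      rw [inv_inv] at e
      have e2 := congrArg (mv g) (e k (mv g⁻¹ x))
      simp only [mv_mul, mv_mv_inv] at e2
      exact e2.symm)
  refine ⟨k', fun v => ?_⟩
  have := hk' (mv g v)
  simp only [LinearMap.comp_apply, DistribSMul.toLinearMap_apply, Matrix.toLin'_apply] at this
  rw [← this]
  show mv g (k • v) = mv g (k • mv g⁻¹ (mv g v))
  rw [mv_inv_mv]

end Cfsg.Agent.FieldMax
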