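/-
Dimension two over K: all transvections with a given centre and axis containing its line.
-/
import Cfsg.Agent.Lib.FieldMax.Commutator

set_option autoImplicit false
set_option linter.unusedSectionVars false
set_option linter.style.haveILetI false

namespace Cfsg.Agent.FieldMax

open scoped Matrix
open Matrix Cfsg.Agent.Transvec

variable {ι : Type} [Fintype ι] [DecidableEq ι] {F : Type*} [Field F] [Fintype F]
variable {K : Type*} [Field K] [Algebra F K] [Module K (ι → F)] [IsScalarTower F K (ι → F)]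

/-- The K-linear map multiplying the kernel component of x by k and fixing e, as a matrix. -/
noncomputable def scaleMat (π : Module.Dual K (ι → F)) (e : ι → F) (k : K) : Matrix ι ι F :=
  1 + LinearMap.toMatrix'
    (((k - 1) • (LinearMap.id - π.smulRight e) : (ι → F) →ₗ[K] ι → F).restrictScalars F)

theorem scaleMat_mulVec (π : Module.Dual K (ι → F)) (e : ι → F) (k : K) (x : ι → F) :
    scaleMat π e k *ᵥ x = x + (k - 1) • (x - π x • e) := by
  rw [scaleMat, Matrix.add_mulVec, Matrix.one_mulVec, LinearMap.toMatrix'_mulVec]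
  rfl

theorem scaleMat_mul {π : Module.Dual K (ι → F)} {e : ι → F} (he : π e = 1) (k l : K) :
    scaleMat π e k * scaleMat π e l = scaleMat π e (k * l) := by
  refine Matrix.ext_of_mulVec_single fun i => ?_
  rw [← Matrix.mulVec_mulVec, scaleMat_mulVec, scaleMat_mulVec, scaleMat_mulVec]
  simp only [map_add, map_smul, map_sub, he, smul_eq_mul, mul_one, sub_self, mul_zero, add_zero]
  module

theorem scaleMat_one (π : Module.Dual K (ι → F)) (e : ι → F) : scaleMat π e 1 = 1 := by
  refine Matrix.ext_of_mulVec_single fun i => ?_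
  rw [scaleMat_mulVec, sub_self, zero_smul, add_zero, Matrix.one_mulVec]

/-- Multiplication by k on the kernel of π, as a homomorphism. -/
noncomputable def scaleHom {π : Module.Dual K (ι → F)} {e : ι → F} (he : π e = 1) :
    Kˣ →* GL ι F where
  toFun k :=
    { val := scaleMat π e k
      inv := scaleMat π e ↑k⁻¹
      val_inv := by rw [scaleMat_mul he, Units.mul_inv, scaleMat_one]
      inv_val := by rw [scaleMat_mul he, Units.inv_mul, scaleMat_one] }
  map_one' := Units.ext (scaleMat_one π e)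
  map_mul' k l := Units.ext (scaleMat_mul he (k : K) (l : K)).symm

theorem mv_scaleHom {π : Module.Dual K (ι → F)} {e : ι → F} (he : π e = 1) (k : Kˣ) (x : ι → F) :
    mv (scaleHom he k) x = x + ((k : K) - 1) • (x - π x • e) :=
  scaleMat_mulVec π e k x

variable {M : Subgroup (GL ι F)}

/-- x ↦ x + B (π x) lies in M, with values in L. -/
def InX (M : Subgroup (GL ι F)) (L : Submodule F (ι → F)) (π : Module.Dual K (ι → F))
    (B : K →ₗ[F] ι → F) : Prop :=
  (∀ k, B k ∈ L) ∧ ∃ a ∈ M, ∀ x, mv a x = x + B (π x)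

/-- Left multiplication by ρ keeps the set InX. -/
def InR (M : Subgroup (GL ι F)) (L : Submodule F (ι → F)) (π : Module.Dual K (ι → F))
    (ρ : (ι → F) →ₗ[F] ι → F) : Prop :=
  (∀ x ∈ L, ρ x ∈ L) ∧ ∀ B, InX M L π B → InX M L π (ρ ∘ₗ B)

section Ring

variable {L : Submodule F (ι → F)} {π : Module.Dual K (ι → F)}

theorem InX.add (hπ : ∀ x ∈ L, π x = 0) {B B' : K →ₗ[F] ι → F} (h : InX M L π B)
    (h' : InX M L π B') : InX M L π (B + B') := by
  obtain ⟨hB, a, ha, hax⟩ := h
  obtain ⟨hB', a', ha', hax'⟩ := h'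
  refine ⟨fun k => L.add_mem (hB k) (hB' k), a * a', M.mul_mem ha ha', fun x => ?_⟩
  rw [mv_mul, hax', hax, map_add, hπ _ (hB' _), add_zero, LinearMap.add_apply]
  abel

theorem InX.zero : InX M L π (0 : K →ₗ[F] ι → F) :=
  ⟨fun _ => L.zero_mem, 1, M.one_mem, fun x => by rw [mv_one, LinearMap.zero_apply, add_zero]⟩

theorem InX.neg (hπ : ∀ x ∈ L, π x = 0) {B : K →ₗ[F] ι → F} (h : InX M L π B) :
    InX M L π (-B) := by
  obtain ⟨hB, a, ha, hax⟩ := h
  refine ⟨fun k => L.neg_mem (hB k), a⁻¹, M.inv_mem ha, fun x => ?_⟩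
  refine (mv_eq_iff a⁻¹).2 ?_
  rw [inv_inv, hax, LinearMap.neg_apply, map_add, map_neg, hπ _ (hB _), neg_zero, add_zero]
  abel

theorem InR.congr {ρ ρ' : (ι → F) →ₗ[F] ι → F} (h : InR M L π ρ) (he : ∀ x ∈ L, ρ' x = ρ x) :
    InR M L π ρ' := by
  refine ⟨fun x hx => by rw [he x hx]; exact h.1 x hx, fun B hB => ?_⟩
  rw [show ρ' ∘ₗ B = ρ ∘ₗ B from LinearMap.ext fun k => he _ (hB.1 k)]
  exact h.2 B hB

theorem InR.zero : InR M L π 0 :=
  ⟨fun _ _ => L.zero_mem, fun B _ => by rw [LinearMap.zero_comp]; exact InX.zero⟩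

theorem InR.id : InR M L π LinearMap.id :=
  ⟨fun _ hx => hx, fun B hB => by rwa [LinearMap.id_comp]⟩

theorem InR.add (hπ : ∀ x ∈ L, π x = 0) {ρ ρ' : (ι → F) →ₗ[F] ι → F} (h : InR M L π ρ)
    (h' : InR M L π ρ') : InR M L π (ρ + ρ') :=
  ⟨fun x hx => L.add_mem (h.1 x hx) (h'.1 x hx),
    fun B hB => by rw [LinearMap.add_comp]; exact (h.2 B hB).add hπ (h'.2 B hB)⟩

theorem InR.neg (hπ : ∀ x ∈ L, π x = 0) {ρ : (ι → F) →ₗ[F] ι → F} (h : InR M L π ρ) :
    InR M L π (-ρ) :=
  ⟨fun x hx => L.neg_mem (h.1 x hx),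
    fun B hB => by rw [LinearMap.neg_comp]; exact (h.2 B hB).neg hπ⟩

theorem InR.comp {ρ ρ' : (ι → F) →ₗ[F] ι → F} (h : InR M L π ρ) (h' : InR M L π ρ') :
    InR M L π (ρ ∘ₗ ρ') :=
  ⟨fun x hx => h.1 _ (h'.1 x hx), fun B hB => by rw [LinearMap.comp_assoc]; exact h.2 _ (h'.2 B hB)⟩

/-- An element of M stabilising L and trivial on the quotient by L. -/
theorem InR.of_mem {g : GL ι F} (hg : g ∈ M) (hL : ∀ x ∈ L, mv g x ∈ L)
    (hq : ∀ x, π (mv g x) = π x) : InR M L π (mvLin g) := by
  refine ⟨fun x hx => by simpa using hL x hx, fun B hB => ?_⟩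
  obtain ⟨hB, a, ha, hax⟩ := hB
  refine ⟨fun k => by simpa using hL _ (hB k), g * a * g⁻¹,
    M.mul_mem (M.mul_mem hg ha) (M.inv_mem hg), fun x => ?_⟩
  have e : π (mv g⁻¹ x) = π x := by
    have := hq (mv g⁻¹ x)
    rw [mv_mv_inv] at this
    exact this.symm
  rw [mv_mul, mv_mul, hax, mv_add, mv_mv_inv, e]
  simp

end Ring

/-- Conjugates of the scalars by stabilisers of L lie in the ring. -/
theorem inR_conj_smul (hr : (Module.finrank F K).Prime)
    (hn : Fintype.card ι = 2 * Module.finrank F K)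
    (hN : ∀ d : GL ι F, IsKLin K d → d ∈ Geo.specialLinear ι F → d ∈ M)
    {v e : ι → F} {π : Module.Dual K (ι → F)} (hv : v ≠ 0) (hπ : ∀ x ∈ line K v, π x = 0)
    (he : π e = 1) {t : GL ι F} (ht : t ∈ M) (htL : ∀ x ∈ line K v, mv t x ∈ line K v) (k : K) :
    InR M (line K v) π ((mvLin t).comp ((DistribSMul.toLinearMap F (ι → F) k).comp (mvLin t⁻¹))) := by
  haveI : Module.Finite F K := Module.finite_of_finrank_pos hr.pos
  haveI : Finite K := Module.finite_of_finite F
  haveI : Module.Finite K (ι → F) := Module.Finite.of_restrictScalars_finite F K (ι → F)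
  have htmap : (line K v).map (mvLin t) = line K v := by
    refine Submodule.eq_of_le_of_finrank_eq ?_ (finrank_map_mv t _)
    intro x hx
    obtain ⟨y, hy, rfl⟩ := mem_map_mv.1 hx
    exact htL y hy
  have htinv : ∀ x ∈ line K v, mv t⁻¹ x ∈ line K v := by
    intro x hx
    rw [← htmap] at hx
    obtain ⟨y, hy, rfl⟩ := mem_map_mv.1 hx
    rwa [mv_inv_mv]
  -- the kernel of π is the line
  have hsplit : ∀ x, x - π x • e ∈ line K v := by
    intro x
    have hne : e ∉ Submodule.span K {v} := fun hm => by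
      have := hπ e hm
      rw [he] at this
      exact one_ne_zero this
    have htop : Submodule.span K {v} ⊔ Submodule.span K {e} = ⊤ := by
      refine Submodule.eq_top_of_finrank_eq ?_
      rw [Submodule.finrank_sup_span_singleton hne, finrank_span_singleton hv]
      have e3 := Module.finrank_mul_finrank F K (ι → F)
      rw [Module.finrank_fintype_fun_eq_card, hn, Nat.mul_comm 2] at e3
      have := hr.pos
      exact (Nat.eq_of_mul_eq_mul_left this e3).symm
    obtain ⟨l, hl, w, hw, hlw⟩ := Submodule.mem_sup.1 (htop ▸ Submodule.mem_top :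
      x ∈ Submodule.span K {v} ⊔ Submodule.span K {e})
    obtain ⟨b, rfl⟩ := Submodule.mem_span_singleton.1 hw
    rw [← hlw, map_add, map_smul, hπ l hl, he, zero_add, smul_eq_mul, mul_one, add_sub_cancel_right]
    exact hl
  let C : K → ((ι → F) →ₗ[F] ι → F) := fun a =>
    (mvLin t).comp ((DistribSMul.toLinearMap F (ι → F) a).comp (mvLin t⁻¹))
  have hC : ∀ a x, C a x = mv t (a • mv t⁻¹ x) := fun a x => by
    simp only [C, LinearMap.comp_apply]
    rfl
  have hπL := hπ
  have hmulC : ∀ a b, InR M (line K v) π (C a) → InR M (line K v) π (C b) →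
      InR M (line K v) π (C (a * b)) := fun a b ha hb =>
    (ha.comp hb).congr fun x _ => by
      show C (a * b) x = C a (C b x)
      rw [hC, hC, hC, mv_inv_mv, smul_smul]
  have hone : InR M (line K v) π (C 1) :=
    InR.id.congr fun x _ => by rw [hC, one_smul, mv_mv_inv]; rfl
  let S : Subring K :=
    { carrier := {a | InR M (line K v) π (C a)}
      mul_mem' := fun {a b} ha hb => hmulC a b ha hb
      one_mem' := hone
      zero_mem' := InR.zero.congr fun x _ => by rw [hC, zero_smul, mv_zero]; rfl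
      add_mem' := fun {a b} ha hb => (InR.add hπL ha hb).congr fun x _ => by
        rw [LinearMap.add_apply, hC, hC, hC, add_smul, mv_add]
      neg_mem' := fun {a} ha => (InR.neg hπL ha).congr fun x _ => by
        rw [LinearMap.neg_apply, hC, hC, neg_smul, mv_neg] }
  letI := Fintype.ofFinite K
  let E : Subfield K := S.toSubfield fun a ha => by
    rcases eq_or_ne a 0 with rfl | h0
    · rw [_root_.inv_zero]; exact S.zero_mem
    · have h2 : 2 ≤ Fintype.card K := Fintype.one_lt_card
      have : a⁻¹ = a ^ (Fintype.card K - 2) := by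
        refine inv_eq_of_mul_eq_one_right ?_
        rw [← pow_succ', show Fintype.card K - 2 + 1 = Fintype.card K - 1 by omega]
        exact FiniteField.pow_card_sub_one_eq_one a h0
      rw [this]
      exact S.pow_mem ha _
  -- the scalars of determinant one
  let χ : Kˣ →* Fˣ := Matrix.GeneralLinearGroup.det.comp (scaleHom he)
  have hker : ∀ a ∈ χ.ker, (a : K) ∈ E := by
    intro a ha
    show InR M (line K v) π (C a)
    have hlin : IsKLin K (scaleHom he a) := by
      intro c x
      rw [mv_scaleHom, mv_scaleHom, map_smul]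
      simp only [smul_eq_mul, smul_add, smul_sub, smul_smul]
      module
    have hdM : scaleHom he a ∈ M := hN _ hlin (MonoidHom.mem_ker.2 (MonoidHom.mem_ker.1 ha))
    have hdL : ∀ x ∈ line K v, mv (scaleHom he a) x = (a : K) • x := by
      intro x hx
      rw [mv_scaleHom, hπ x hx, zero_smul, sub_zero, sub_smul, one_smul, add_sub_cancel]
    refine (InR.of_mem (g := t * scaleHom he a * t⁻¹)
      (M.mul_mem (M.mul_mem ht hdM) (M.inv_mem ht)) ?_ ?_).congr ?_
    · intro x hx
      rw [mv_mul, mv_mul, hdL _ (htinv x hx)]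
      exact htL _ (smul_mem_line (htinv x hx) _)
    · intro x
      rw [mv_mul, mv_mul, mv_scaleHom, mv_add, mv_mv_inv, map_add,
        hπ _ (htL _ (smul_mem_line (hsplit _) _)), add_zero]
    · intro x hx
      rw [hC]
      show _ = Matrix.toLin' _ x
      rw [Matrix.toLin'_apply]
      show _ = mv (t * scaleHom he a * t⁻¹) x
      rw [mv_mul, mv_mul, hdL _ (htinv x hx)]
  suffices hE : ∀ a : K, a ∈ E from hE k
  by_contra hnot
  push Not at hnot
  obtain ⟨a₀, ha₀⟩ := hnot
  -- counting
  set q := Nat.card F with hq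
  set eS := Nat.card E with heS
  have hQ : Nat.card K = q ^ Module.finrank F K := Module.natCard_eq_pow_finrank
  have hQ2 : Nat.card K = eS ^ Module.finrank E K := Module.natCard_eq_pow_finrank
  have hq2 : 2 ≤ q := Finite.one_lt_card
  have he2 : 2 ≤ eS := Finite.one_lt_card
  have hd : 2 ≤ Module.finrank E K := by
    by_contra hlt
    have h1 : Module.finrank E K = 1 := by
      have : 0 < Module.finrank E K := Module.finrank_pos
      omega
    rw [h1, pow_one] at hQ2
    have hbij : Function.Bijective (Subtype.val : E → K) :=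
      (Nat.bijective_iff_injective_and_card _).2 ⟨Subtype.val_injective, hQ2.symm⟩
    obtain ⟨b, hb⟩ := hbij.2 a₀
    exact ha₀ (hb ▸ b.2)
  have he_sq : eS * eS ≤ Nat.card K := by
    rw [hQ2, ← pow_two]; exact Nat.pow_le_pow_right (by omega) hd
  have hq_sq : q * q ≤ Nat.card K := by
    rw [hQ, ← pow_two]; exact Nat.pow_le_pow_right (by omega) hr.two_le
  have heq : eS * q ≤ Nat.card K := by
    have h := Nat.mul_le_mul he_sq hq_sq
    nlinarith
  have hk1 : Nat.card χ.ker + 1 ≤ eS := by
    let f : χ.ker → {b : E // b ≠ 0} := fun a => ⟨⟨(a.1 : K), hker a.1 a.2⟩, fun h =>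
      a.1.ne_zero (congrArg Subtype.val h)⟩
    have hf : Function.Injective f := fun a b h =>
      Subtype.ext (Units.ext (congrArg (fun z => z.1.1) h))
    have h1 := Nat.card_le_card_of_injective f hf
    have h2 : Nat.card {b : E // b ≠ 0} = eS - 1 := by
      rw [← Nat.card_congr unitsEquivNeZero, Nat.card_units]
    omega
  have hmul : Nat.card χ.ker * Nat.card χ.range = Nat.card K - 1 := by
    rw [← Subgroup.index_ker, Subgroup.card_mul_index, Nat.card_units]
  have hrg : Nat.card χ.range ≤ q - 1 := by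
    rw [hq, ← Nat.card_units F]
    exact Subgroup.card_le_card_group _
  have h1 : Nat.card K - 1 ≤ (eS - 1) * (q - 1) := by
    rw [← hmul]; exact Nat.mul_le_mul (by omega) hrg
  obtain ⟨a, hea⟩ : ∃ a, eS = a + 2 := ⟨eS - 2, by omega⟩
  obtain ⟨b, hb⟩ : ∃ b, q = b + 2 := ⟨q - 2, by omega⟩
  rw [hb, hea] at h1 heq
  have : (a + 2 - 1) * (b + 2 - 1) + a + b + 3 = (a + 2) * (b + 2) := by
    rw [show a + 2 - 1 = a + 1 by omega, show b + 2 - 1 = b + 1 by omega]; ring
  omega

/-- In dimension two, apart from the field of four elements over that of two. -/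
theorem exists_axisAll_two (hr : (Module.finrank F K).Prime)
    (hn : Fintype.card ι = 2 * Module.finrank F K)
    (hex : Module.finrank F K ≠ 2 ∨ Fintype.card F ≠ 2)
    (hN : ∀ d : GL ι F, IsKLin K d → d ∈ Geo.specialLinear ι F → d ∈ M)
    (hns : ∃ g ∈ M, ¬ IsSemi K g) : ∃ w : ι → F, w ≠ 0 ∧ AxisAll K M w := by
  haveI : Module.Finite F K := Module.finite_of_finrank_pos hr.pos
  haveI : Finite K := Module.finite_of_finite F
  have hT : ∀ (c : ι → F) (φ : Module.Dual K (ι → F)) (h : φ c = 0), ktv c φ h ∈ M :=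
    fun c φ h => hN _ (ktv_isKLin h) (ktv_mem_specialLinear h)
  obtain ⟨v, U₀, h, y, hv, hU₀, hdim, hh, hfix, hy, hhy, hsup⟩ :=
    exists_witness hr hn.ge hT hns
  obtain ⟨π, hπ, he⟩ := exists_kdual (W := Submodule.span K {v}) (z := mv h y) hhy
  have hyU : y ∉ U₀ := fun hm' => hhy (by rw [hfix y hm']; exact hy)
  obtain ⟨a₀, ha₀, ha₀y⟩ := exists_dual hyU
  have hy0 : y ≠ 0 := fun h0 => hyU (h0 ▸ U₀.zero_mem)
  have hLv : ∀ {w : ι → F}, w ∈ line K v → w ≠ 0 → ∀ x ∈ line K v, x ∈ line K w :=
    fun {w} hw hw0 x hx => by rwa [line_eq hw hw0]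
  -- conjugates of scalars by the transvection-like maps on the line
  have hZ : ∀ u ∈ U₀, ∀ k : K, InR M (line K v) π
      (((a₀.comp (DistribSMul.toLinearMap F (ι → F) k)).smulRight u) - a₀.smulRight (k • u) -
        (a₀ (k • u)) • a₀.smulRight u) := by
    intro u hu k
    obtain ⟨t, ht⟩ : ∃ t, t = h⁻¹ * ktv u π (hπ u (hU₀ hu)) * h := ⟨_, rfl⟩
    have htM : t ∈ M := by rw [ht]; exact M.mul_mem (M.mul_mem (M.inv_mem hh) (hT _ _ _)) hh
    have htx : ∀ x ∈ line K v, mv t x = x + a₀ x • u := by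
      intro x hx
      rw [← hsup] at hx
      obtain ⟨u₁, hu₁, w, hw, rfl⟩ := Submodule.mem_sup.1 hx
      obtain ⟨a, rfl⟩ := Submodule.mem_span_singleton.1 hw
      have e1 : π (mv h (u₁ + a • y)) = algebraMap F K a := by
        rw [mv_add, mv_smul, hfix u₁ hu₁, map_add, hπ u₁ (hU₀ hu₁), zero_add,
          ← IsScalarTower.algebraMap_smul K a (mv h y), map_smul, he, smul_eq_mul, mul_one]
      have e2 : a₀ (u₁ + a • y) = a := by
        rw [map_add, ha₀ u₁ hu₁, map_smul, ha₀y, smul_eq_mul, mul_one, zero_add]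
      rw [ht, mv_mul, mv_mul, e2]
      refine (mv_eq_iff h⁻¹).2 ?_
      rw [inv_inv, mv_ktv, e1, IsScalarTower.algebraMap_smul]
      simp only [mv_add, mv_smul, hfix u₁ hu₁, hfix u hu]
    have htL : ∀ x ∈ line K v, mv t x ∈ line K v := fun x hx => by
      rw [htx x hx]; exact (line K v).add_mem hx ((line K v).smul_mem _ (hU₀ hu))
    have hinv : ∀ x ∈ line K v, mv t⁻¹ x = x - a₀ x • u := by
      intro x hx
      refine (mv_eq_iff t⁻¹).2 ?_
      rw [inv_inv, htx _ ((line K v).sub_mem hx ((line K v).smul_mem _ (hU₀ hu))), map_sub, map_smul,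
        ha₀ u hu, smul_zero, sub_zero, sub_add_cancel]
    have h1 := inR_conj_smul hr hn hN hv hπ he htM htL k
    have h2 := inR_conj_smul hr hn hN hv hπ he M.one_mem
      (fun x hx => by rw [mv_one]; exact hx) k
    refine (InR.add hπ h1 (InR.neg hπ h2)).congr fun x hx => ?_
    have hxt : x - a₀ x • u ∈ line K v := (line K v).sub_mem hx ((line K v).smul_mem _ (hU₀ hu))
    simp only [LinearMap.add_apply, LinearMap.neg_apply, LinearMap.sub_apply, LinearMap.smul_apply,
      LinearMap.comp_apply, LinearMap.smulRight_apply, DistribSMul.toLinearMap_apply, inv_one,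
      Units.val_one, Matrix.toLin'_one, LinearMap.id_apply, Matrix.toLin'_apply]
    show a₀ (k • x) • u - a₀ x • k • u - a₀ (k • u) • a₀ x • u =
      mv t (k • mv t⁻¹ x) + -(mv 1 (k • mv 1 x))
    rw [mv_one, mv_one, hinv x hx, htx _ (smul_mem_line hxt k), smul_sub, smul_comm k (a₀ x) u, map_sub, a₀.map_smul (a₀ x) (k • u),
      smul_eq_mul, sub_smul, mul_smul, smul_comm (a₀ x) (a₀ (k • u)) u]
    abel
  -- a rank one element
  obtain ⟨ρ, w, a, hρ, hw, hw0, ha, hρx⟩ : ∃ (ρ : (ι → F) →ₗ[F] ι → F) (w : ι → F)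
      (a : Module.Dual F (ι → F)), InR M (line K v) π ρ ∧ w ∈ line K v ∧ w ≠ 0 ∧
        (∃ x ∈ line K v, a x ≠ 0) ∧ ∀ x ∈ line K v, ρ x = a x • w := by
    by_cases h2 : Module.finrank F K = 2
    · obtain ⟨u₀, hu₀, hu₀0⟩ : ∃ u ∈ U₀, u ≠ 0 := Submodule.exists_mem_ne_zero_of_ne_bot fun hb => by
        rw [hb, finrank_bot] at hdim
        omega
      have hspan : Submodule.span F {u₀} = U₀ := Submodule.eq_of_le_of_finrank_eq
        (by rw [Submodule.span_singleton_le_iff_mem]; exact hu₀)
        (by rw [finrank_span_singleton hu₀0]; omega)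
      have hrep : ∀ x ∈ line K v, ∃ p s : F, x = p • u₀ + s • y := by
        intro x hx
        rw [← hsup, ← hspan] at hx
        obtain ⟨u₁, hu₁, w, hw, rfl⟩ := Submodule.mem_sup.1 hx
        obtain ⟨p, rfl⟩ := Submodule.mem_span_singleton.1 hu₁
        obtain ⟨s, rfl⟩ := Submodule.mem_span_singleton.1 hw
        exact ⟨p, s, rfl⟩
      obtain ⟨k₀, hk₀⟩ := mem_line.1 (hLv (hU₀ hu₀) hu₀0 y hy)
      obtain ⟨α, β, hαβ⟩ := hrep _ (smul_mem_line hy k₀)
      obtain ⟨c, hc0, hc⟩ : ∃ c : F, c ≠ 0 ∧ ((2 : F) ≠ 0 ∨ β - c ≠ 0) := by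
        by_cases htwo : (2 : F) = 0
        · have hcard : 2 < Fintype.card F := by
            have h1 := hex.resolve_left (by simpa using h2)
            have : 1 < Fintype.card F := Fintype.one_lt_card
            omega
          classical
          obtain ⟨c, -, hc⟩ := Finset.exists_mem_notMem_of_card_lt_card
            (s := ({0, β} : Finset F)) (t := Finset.univ)
            (lt_of_le_of_lt Finset.card_le_two (by rwa [Finset.card_univ]))
          simp only [Finset.mem_insert, Finset.mem_singleton, not_or] at hc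
          exact ⟨c, hc.1, Or.inr (sub_ne_zero.2 (Ne.symm hc.2))⟩
        · exact ⟨1, one_ne_zero, Or.inl htwo⟩
      have hcu : c • u₀ ∈ U₀ := U₀.smul_mem c hu₀
      have hscal : InR M (line K v) π (DistribSMul.toLinearMap F (ι → F) (algebraMap F K c⁻¹)) :=
        (inR_conj_smul hr hn hN hv hπ he M.one_mem (fun x hx => by rw [mv_one]; exact hx)
          (algebraMap F K c⁻¹)).congr fun x _ => by
            simp only [LinearMap.comp_apply, inv_one, Units.val_one, Matrix.toLin'_one,
              LinearMap.id_apply, DistribSMul.toLinearMap_apply, Matrix.toLin'_apply, Matrix.one_mulVec]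
      refine ⟨_, u₀, (2 : F) • a₀.comp (DistribSMul.toLinearMap F (ι → F) k₀) + (-β - c) • a₀,
        InR.add hπ (hscal.comp (hZ (c • u₀) hcu k₀)) InR.id, hU₀ hu₀, hu₀0, ?_, ?_⟩
      · have e1 : a₀ (k₀ • u₀) = 1 := by rw [hk₀, ha₀y]
        have e2 : a₀ (k₀ • y) = β := by
          rw [hαβ, map_add, map_smul, map_smul, ha₀ u₀ hu₀, ha₀y]; simp
        rcases hc with hc | hc
        · refine ⟨u₀, hU₀ hu₀, ?_⟩
          simpa [e1, ha₀ u₀ hu₀] using hc
        · refine ⟨y, hy, fun hz => hc ?_⟩
          simp only [LinearMap.add_apply, LinearMap.smul_apply, LinearMap.comp_apply,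
            DistribSMul.toLinearMap_apply, e2, ha₀y, smul_eq_mul, mul_one] at hz
          linear_combination hz
      · intro x hx
        obtain ⟨p, s, rfl⟩ := hrep x hx
        have ek : k₀ • (p • u₀ + s • y) = p • y + s • (α • u₀ + β • y) := by
          rw [smul_add, smul_comm k₀ p u₀, smul_comm k₀ s y, hk₀, hαβ]
        simp only [LinearMap.add_apply, LinearMap.smul_apply, LinearMap.comp_apply, LinearMap.sub_apply,
          LinearMap.smulRight_apply, DistribSMul.toLinearMap_apply, LinearMap.id_apply, ek, map_add,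
          map_smul, ha₀ u₀ hu₀, ha₀y, smul_comm k₀ c u₀, hk₀, hαβ, IsScalarTower.algebraMap_smul, smul_eq_mul]
        match_scalars <;> field_simp <;> ring
    · obtain ⟨k, hk⟩ : ∃ k : K, k ∉ (⊥ : Subalgebra F K) := by
        by_contra hc
        push Not at hc
        exact hr.one_lt.ne'
          (Subalgebra.bot_eq_top_iff_finrank_eq_one.1 (eq_top_iff.2 fun x _ => hc x))
      obtain ⟨u, hu, hu0, hku⟩ : ∃ u ∈ U₀, u ≠ 0 ∧ a₀ (k • u) = 0 := by
        let g : U₀ →ₗ[F] F := a₀.comp ((DistribSMul.toLinearMap F (ι → F) k).comp U₀.subtype)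
        have hlt : 1 < Module.finrank F U₀ := by have := hr.two_le; omega
        obtain ⟨x, hx, hx0⟩ := Submodule.exists_mem_ne_zero_of_ne_bot
          (LinearMap.ker_ne_bot_of_finrank_lt (f := g) (by rwa [Module.finrank_self]))
        exact ⟨x.1, x.2, fun h0 => hx0 (Subtype.ext h0), LinearMap.mem_ker.1 hx⟩
      obtain ⟨w, hw, hw1, hw2, hw3⟩ : ∃ w ∈ line K v, a₀ w = 0 ∧ a₀ (k • w) = 0 ∧
          a₀ (k • k • w) ≠ 0 := by
        by_contra hc
        push Not at hc
        let U₂ : Submodule F (ι → F) := line K v ⊓ LinearMap.ker a₀ ⊓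
          LinearMap.ker (a₀.comp (DistribSMul.toLinearMap F (ι → F) k))
        have hst := smul_stable hr hk (U := U₂) (fun x hx => by
          obtain ⟨⟨hxL, hx1⟩, hx2⟩ := hx
          exact ⟨⟨smul_mem_line hxL k, hx2⟩, hc x hxL hx1 hx2⟩)
        obtain ⟨l, hl⟩ := mem_line.1 (hLv (hU₀ hu) hu0 y hy)
        have := (hst l u ⟨⟨hU₀ hu, ha₀ u hu⟩, hku⟩).1.2
        rw [hl] at this
        have e : a₀ y = 0 := this
        rw [ha₀y] at e
        exact one_ne_zero e
      obtain ⟨ρ, hρ⟩ := mem_line.1 (hLv (hU₀ hu) hu0 w hw)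
      have hscal : InR M (line K v) π (DistribSMul.toLinearMap F (ι → F) ρ) :=
        (inR_conj_smul hr hn hN hv hπ he M.one_mem (fun x hx => by rw [mv_one]; exact hx)
          ρ).congr fun x _ => by
            simp only [LinearMap.comp_apply, inv_one, Units.val_one, Matrix.toLin'_one,
              LinearMap.id_apply, DistribSMul.toLinearMap_apply, Matrix.toLin'_apply, Matrix.one_mulVec]
      refine ⟨_, u, (-(a₀ (k • k • w))) • a₀, (hZ u hu k).comp (hscal.comp (hZ u hu k)), hU₀ hu, hu0,
        ⟨y, hy, ?_⟩, fun x _ => ?_⟩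
      · simpa [ha₀y] using hw3
      · simp only [LinearMap.comp_apply, LinearMap.sub_apply, LinearMap.smul_apply,
          LinearMap.smulRight_apply, DistribSMul.toLinearMap_apply, hku, zero_smul, sub_zero,
          smul_sub, smul_comm ρ, smul_comm k ρ, hρ, map_sub, map_smul, hw1, hw2, smul_eq_mul,
          mul_zero, zero_sub, sub_smul, neg_smul, mul_smul, smul_comm k (a₀ x), smul_comm k (a₀ (k • x))]
        have e1 : ρ • k • u = k • w := by rw [smul_comm ρ k u, hρ]
        simp only [e1, hw2, zero_smul, smul_zero, zero_sub, sub_zero]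
        rw [smul_comm]
  -- all functionals killing the line
  refine ⟨w, hw0, fun f hf hfL => ?_⟩
  let T : line K v →ₗ[F] Module.Dual F (ι → F) :=
    { toFun := fun c => a.comp ((π.smulRight (c : ι → F)).restrictScalars F)
      map_add' := fun c c' => LinearMap.ext fun x => by
        show a (π x • ((c : ι → F) + c')) = a (π x • (c : ι → F)) + a (π x • (c' : ι → F))
        rw [smul_add, map_add]
      map_smul' := fun s c => LinearMap.ext fun x => by
        show a (π x • (s • (c : ι → F))) = s • a (π x • (c : ι → F))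
        rw [smul_comm, map_smul] }
  have hTinj : Function.Injective T := by
    intro c c' hcc
    refine Subtype.ext (sub_eq_zero.1 (by_contra fun hne => ?_))
    obtain ⟨x, hx, hax⟩ := ha
    obtain ⟨k, hk⟩ := mem_line.1 (hLv ((line K v).sub_mem c.2 c'.2) hne x hx)
    have e : a (π (k • mv h y) • (c : ι → F)) = a (π (k • mv h y) • (c' : ι → F)) :=
      DFunLike.congr_fun hcc (k • mv h y)
    rw [show π (k • mv h y) = k by rw [map_smul, he, smul_eq_mul, mul_one], ← sub_eq_zero, ← map_sub,
      ← smul_sub, hk] at e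
    exact hax e
  have hrange : LinearMap.range T = (line K v).dualAnnihilator := by
    refine Submodule.eq_of_le_of_finrank_eq ?_ ((LinearMap.finrank_range_of_inj hTinj).trans ?_)
    · rintro _ ⟨c, rfl⟩
      refine (Submodule.mem_dualAnnihilator _).2 fun x hx => ?_
      show a (π x • (c : ι → F)) = 0
      rw [hπ x hx, zero_smul, map_zero]
    · have e2 := Subspace.finrank_add_finrank_dualAnnihilator_eq (line K v)
      rw [Module.finrank_fintype_fun_eq_card, finrank_line hv, hn] at e2
      rw [finrank_line hv]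
      omega
  obtain ⟨c, hc⟩ := hrange.ge ((Submodule.mem_dualAnnihilator f).2 fun x hx => by
    obtain ⟨k, rfl⟩ := mem_line.1 (hLv hw hw0 x hx)
    exact hfL k)
  let B : K →ₗ[F] ι → F := (LinearMap.toSpanSingleton K (ι → F) (c : ι → F)).restrictScalars F
  have hB : InX M (line K v) π B :=
    ⟨fun k => smul_mem_line c.2 k, ktv (c : ι → F) π (hπ _ c.2), hT _ _ _, fun x => mv_ktv _ x⟩
  obtain ⟨-, g, hg, hgx⟩ := hρ.2 B hB
  rw [show tv w f hf = g from ext_mv fun x => by
    rw [mv_tv, hgx]
    show x + f x • w = x + ρ (π x • (c : ι → F))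
    rw [hρx _ (smul_mem_line c.2 _)]
    exact congrArg (fun z : F => x + z • w) (DFunLike.congr_fun hc x).symm]
  exact hg

end Cfsg.Agent.FieldMax
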