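/-
The normaliser of an extension field of prime degree is maximal.
-/
import Cfsg.Agent.Lib.FieldMax.LowRank
import Cfsg.Agent.Lib.FieldMax.FourSemi
import Cfsg.Agent.Lib.Transvec.SubfieldSL
import Mathlib.RingTheory.Norm.Transitivity

set_option autoImplicit false
set_option linter.unusedSectionVars false
set_option linter.style.haveILetI false

namespace Cfsg.Agent.FieldMax

open scoped Matrix
open Matrix Cfsg.Agent.Transvec

variable {ι : Type} [Fintype ι] [DecidableEq ι] {F : Type*} [Field F] [Fintype F]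
variable {K : Type*} [Field K] [Algebra F K] [Module K (ι → F)] [IsScalarTower F K (ι → F)]
variable {M : Subgroup (GL ι F)}

/-- One centre with all axes over its line gives the special linear group. -/
theorem sl_le_of_axisAll (hr : 0 < Module.finrank F K)
    (hm : 2 * Module.finrank F K ≤ Fintype.card ι)
    (hT : ∀ (c : ι → F) (φ : Module.Dual K (ι → F)) (h : φ c = 0), ktv c φ h ∈ M)
    {w : ι → F} (hw : w ≠ 0) (hax : AxisAll K M w) : Geo.specialLinear ι F ≤ M := by
  haveI : Module.Finite F K := Module.finite_of_finrank_pos hr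
  have hout : ∀ c : ι → F, c ≠ 0 → ∃ z, z ∉ Submodule.span K {c} := by
    intro c hc
    by_contra hno
    push Not at hno
    have e : line K c = ⊤ := Submodule.eq_top_iff'.2 hno
    have e2 := finrank_line (K := K) hc
    rw [e, finrank_top, Module.finrank_fintype_fun_eq_card] at e2
    omega
  -- linear members of M are transitive
  have hstep : ∀ u z : ι → F, u ≠ 0 → z ∉ Submodule.span K {u} →
      ∃ g ∈ M, IsKLin K g ∧ mv g u = z := by
    intro u z hu hz
    have hu' : u ∉ Submodule.span K {z - u} := by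
      intro hm'
      obtain ⟨a, ha⟩ := Submodule.mem_span_singleton.1 hm'
      have ha0 : a ≠ 0 := fun h => hu (by rw [← ha, h, zero_smul])
      refine hz (Submodule.mem_span_singleton.2 ⟨a⁻¹ + 1, ?_⟩)
      have : z - u = a⁻¹ • u := by
        conv_rhs => rw [← ha]
        rw [smul_smul, inv_mul_cancel₀ ha0, one_smul]
      rw [add_smul, one_smul, ← this, sub_add_cancel]
    obtain ⟨φ, hφ, hφu⟩ := exists_kdual hu'
    refine ⟨ktv (z - u) φ (hφ _ (Submodule.mem_span_singleton_self _)), hT _ _ _, ktv_isKLin _, ?_⟩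
    rw [mv_ktv, hφu, one_smul, add_sub_cancel]
  have hall : ∀ u : ι → F, AxisAll K M u := by
    intro u
    rcases eq_or_ne u 0 with rfl | hu
    · intro f hf _
      rw [show tv 0 f hf = 1 from ext_mv fun x => by rw [mv_tv, mv_one, smul_zero, add_zero]]
      exact M.one_mem
    obtain ⟨g, hg, hglin, hgw⟩ : ∃ g ∈ M, IsKLin K g ∧ mv g w = u := by
      by_cases hwu : u ∈ Submodule.span K {w}
      · obtain ⟨z, hz⟩ := hout w hw
        have hz0 : z ≠ 0 := fun h => hz (h ▸ Submodule.zero_mem _)
        have huz : u ∉ Submodule.span K {z} := fun h' => by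
          have e : line K u = line K z := line_eq h' hu
          exact hz (show z ∈ line K w from line_eq (K := K) hwu hu ▸ e ▸ self_mem_line z)
        obtain ⟨g₁, hg₁, hl₁, he₁⟩ := hstep w z hw hz
        obtain ⟨g₂, hg₂, hl₂, he₂⟩ := hstep z u hz0 huz
        exact ⟨g₂ * g₁, M.mul_mem hg₂ hg₁, fun k v => by rw [mv_mul, mv_mul, hl₁, hl₂],
          by rw [mv_mul, he₁, he₂]⟩
      · exact hstep w u hw hwu
    intro f hf hfu
    have hkill : ∀ k : K, (f.comp (mvLin g)) (k • w) = 0 := fun k => by
      show f (Matrix.toLin' (g : Matrix ι ι F) (k • w)) = 0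
      rw [Matrix.toLin'_apply]
      show f (mv g (k • w)) = 0
      rw [hglin, hgw]
      exact hfu k
    have h0 : (f.comp (mvLin g)) w = 0 := by simpa using hkill 1
    rw [← tv_conj h0 g hf hgw.symm fun x => by simp]
    exact M.mul_mem (M.mul_mem hg (hax _ h0 hkill)) (M.inv_mem hg)
  refine specialLinear_le fun u f hf => ?_
  by_cases hfu : ∀ k : K, f (k • u) = 0
  · exact hall u f hf hfu
  have hu : u ≠ 0 := fun h => hfu fun k => by rw [h, smul_zero, map_zero]
  let Ψ : (ι → F) →ₗ[F] Module.Dual F K :=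
    { toFun := fun b => f.comp ((LinearMap.toSpanSingleton K (ι → F) b).restrictScalars F)
      map_add' := fun b b' => LinearMap.ext fun k => by
        show f (k • (b + b')) = f (k • b) + f (k • b')
        rw [smul_add, map_add]
      map_smul' := fun s b => LinearMap.ext fun k => by
        show f (k • (s • b)) = s • f (k • b)
        rw [smul_comm, map_smul] }
  have hker : Module.finrank F K ≤ Module.finrank F (LinearMap.ker Ψ) := by
    have e := LinearMap.finrank_range_add_finrank_ker Ψ
    have e2 := Submodule.finrank_le (LinearMap.range Ψ)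
    rw [Subspace.dual_finrank_eq] at e2
    rw [Module.finrank_fintype_fun_eq_card] at e
    omega
  have hΨ : ∀ {b}, b ∈ LinearMap.ker Ψ → ∀ k : K, f (k • b) = 0 := fun {b} hb k =>
    DFunLike.congr_fun (LinearMap.mem_ker.1 hb) k
  obtain ⟨b, hb, hbu⟩ : ∃ b ∈ LinearMap.ker Ψ, b ∉ line K u := by
    by_contra hc
    push Not at hc
    have e : LinearMap.ker Ψ = line K u :=
      Submodule.eq_of_le_of_finrank_le hc (by rw [finrank_line hu]; exact hker)
    exact hfu fun k => by simpa using hΨ (e.ge (smul_mem_line (self_mem_line u) k)) 1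
  obtain ⟨θ, hθ, hθb⟩ := exists_dual hbu
  have hfb : f b = 0 := by simpa using hΨ hb 1
  have hθu : θ u = 0 := hθ u (self_mem_line u)
  have h1 : (θ b • f) u = 0 := by simp [hf]
  rw [show tv u f hf = tv u (θ b • f) h1 from tv_congr _ _ fun x => by simp [hθb],
    ← tv_comm_axis hθu hfb hf h1]
  exact comm_mem (hall u θ hθu fun k => hθ _ (smul_mem_line (self_mem_line u) k))
    (hall b f hfb (hΨ hb))

/-- An overgroup of the semilinear group of determinant one with a member that is not semilinear
contains the special linear group. -/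
theorem sl_le (hr : (Module.finrank F K).Prime) (hdvd : Module.finrank F K ∣ Fintype.card ι)
    (hlt : Module.finrank F K < Fintype.card ι) {N : Subgroup (GL ι F)}
    (hmem : ∀ g, g ∈ N ↔ IsSemi K g) (hNM : N ⊓ Geo.specialLinear ι F ≤ M)
    (hns : ∃ g ∈ M, ¬ IsSemi K g) : Geo.specialLinear ι F ≤ M := by
  have hN : ∀ d : GL ι F, IsKLin K d → d ∈ Geo.specialLinear ι F → d ∈ M := fun d hd hdet =>
    hNM ⟨(hmem d).2 fun k => ⟨k, fun v => hd k v⟩, hdet⟩
  have hT : ∀ (c : ι → F) (φ : Module.Dual K (ι → F)) (h : φ c = 0), ktv c φ h ∈ M :=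
    fun c φ h => hN _ (ktv_isKLin h) (ktv_mem_specialLinear h)
  obtain ⟨m, hm⟩ := hdvd
  have hm2 : 2 ≤ m := by
    by_contra hc
    have := Nat.mul_le_mul_left (Module.finrank F K) (show m ≤ 1 by omega)
    omega
  have hn2 : 2 * Module.finrank F K ≤ Fintype.card ι := by
    rw [hm, mul_comm 2]; exact Nat.mul_le_mul_left _ hm2
  rcases Nat.lt_or_eq_of_le hm2 with hm3 | hm2'
  · have hn3 : 3 * Module.finrank F K ≤ Fintype.card ι := by
      rw [hm, mul_comm 3]; exact Nat.mul_le_mul_left _ hm3
    obtain ⟨v, f, hf, hv, hfL, hf0, htv⟩ := exists_tv_mem hr hn3 hT hns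
    exact sl_le_of_axisAll hr.pos hn2 hT hv (axisAll_of_tv hr hn3 hT hv hf hfL hf0 htv)
  have hn : Fintype.card ι = 2 * Module.finrank F K := by rw [hm, ← hm2', mul_comm]
  by_cases hex : Module.finrank F K ≠ 2 ∨ Fintype.card F ≠ 2
  · obtain ⟨w, hw, hax⟩ := exists_axisAll_two hr hn hex hN hns
    exact sl_le_of_axisAll hr.pos hn2 hT hw hax
  push Not at hex
  have hsl : ∀ g : GL ι F, g ∈ Geo.specialLinear ι F := fun g => MonoidHom.mem_ker.2 (by
    classical
    haveI : Subsingleton Fˣ := Fintype.card_le_one_iff_subsingleton.1 (by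
      rw [Fintype.card_units, hex.2])
    exact Subsingleton.elim _ _)
  rw [small_case hmem (fun g hg => hNM ⟨hg, hsl g⟩) (by omega) hex.1 hex.2 hns]
  exact le_top

/-- Linear maps over K realise every determinant. -/
theorem exists_klin_det [Nonempty ι] (hr : 0 < Module.finrank F K) (c : Fˣ) :
    ∃ d : GL ι F, IsKLin K d ∧ Matrix.GeneralLinearGroup.det d = c := by
  haveI : Module.Finite F K := Module.finite_of_finrank_pos hr
  haveI : Finite K := Module.finite_of_finite F
  haveI : Module.Finite K (ι → F) := Module.Finite.of_restrictScalars_finite F K (ι → F)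
  obtain ⟨k, hk⟩ := FiniteField.norm_surjective F K (c : F)
  let b := Module.finBasis K (ι → F)
  have hpos : 0 < Module.finrank K (ι → F) := by
    have e3 := Module.finrank_mul_finrank F K (ι → F)
    rw [Module.finrank_fintype_fun_eq_card] at e3
    rcases Nat.eq_zero_or_pos (Module.finrank K (ι → F)) with h | h
    · rw [h, mul_zero] at e3
      exact absurd e3.symm Fintype.card_ne_zero
    · exact h
  let D : (ι → F) →ₗ[K] ι → F :=
    Matrix.toLin b b (Matrix.diagonal (Function.update 1 ⟨0, hpos⟩ k))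
  have hdetK : LinearMap.det D = k := by
    rw [LinearMap.det_toLin, Matrix.det_diagonal, Finset.prod_update_of_mem (Finset.mem_univ _)]
    simp
  have hdet : (LinearMap.toMatrix' (D.restrictScalars F)).det = c := by
    rw [LinearMap.det_toMatrix', LinearMap.det_restrictScalars, hdetK, hk]
  refine ⟨Matrix.GeneralLinearGroup.mk'' (LinearMap.toMatrix' (D.restrictScalars F))
    (by rw [hdet]; exact c.isUnit), fun a v => ?_, Units.ext ?_⟩
  · show LinearMap.toMatrix' (D.restrictScalars F) *ᵥ (a • v) =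
      a • (LinearMap.toMatrix' (D.restrictScalars F) *ᵥ v)
    rw [LinearMap.toMatrix'_mulVec, LinearMap.toMatrix'_mulVec]
    exact map_smul D a v
  · rw [Matrix.GeneralLinearGroup.val_det_apply]
    exact hdet

/-- A determinant one map that is not semilinear. -/
theorem exists_not_semi (hr : 1 < Module.finrank F K)
    (hm : 2 * Module.finrank F K ≤ Fintype.card ι) :
    ∃ g ∈ Geo.specialLinear ι F, ¬ IsSemi K g := by
  haveI : Module.Finite F K := Module.finite_of_finrank_pos (by omega)
  obtain ⟨k, hk⟩ : ∃ k : K, k ∉ (⊥ : Subalgebra F K) := by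
    by_contra hc
    push Not at hc
    have := Subalgebra.bot_eq_top_iff_finrank_eq_one.1
      (eq_top_iff.2 fun x _ => hc x : (⊥ : Subalgebra F K) = ⊤)
    omega
  haveI : Nonempty ι := Fintype.card_pos_iff.1 (by omega)
  obtain ⟨e, he⟩ : ∃ e : ι → F, e ≠ 0 := exists_ne 0
  obtain ⟨u, hu⟩ : ∃ u, u ∉ line K e := by
    by_contra hc
    push Not at hc
    have e' : line K e = ⊤ := Submodule.eq_top_iff'.2 hc
    have e2 := finrank_line (K := K) he
    rw [e', finrank_top, Module.finrank_fintype_fun_eq_card] at e2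
    omega
  have hke : k • e ∉ Submodule.span F {u} ⊔ Submodule.span F {e} := by
    intro hm'
    obtain ⟨a, ha, b, hb, hab⟩ := Submodule.mem_sup.1 hm'
    obtain ⟨p, rfl⟩ := Submodule.mem_span_singleton.1 ha
    obtain ⟨q, rfl⟩ := Submodule.mem_span_singleton.1 hb
    rcases eq_or_ne p 0 with rfl | hp
    · rw [zero_smul, zero_add, ← IsScalarTower.algebraMap_smul K q e] at hab
      exact hk (Algebra.mem_bot.2 ⟨q, smul_left_injective K he hab⟩)
    · apply hu
      have : p • u ∈ line K e := by
        rw [show p • u = k • e - q • e by rw [← hab, add_sub_cancel_right]]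
        exact (line K e).sub_mem (smul_mem_line (self_mem_line e) k)
          ((line K e).smul_mem q (self_mem_line e))
      simpa [smul_smul, inv_mul_cancel₀ hp] using (line K e).smul_mem p⁻¹ this
  obtain ⟨f, hf, hfe, hfk⟩ := exists_dual₂ hke
  have hfu : f u = 0 := hf u (Submodule.mem_span_singleton_self u)
  refine ⟨tv u f hfu, tv_mem_specialLinear _, fun hsemi => hu ?_⟩
  obtain ⟨k', hk'⟩ := hsemi k
  have e1 := hk' e
  rw [mv_tv, mv_tv, hfk, hfe, one_smul, zero_smul, add_zero] at e1
  exact mem_line.2 ⟨k' - k, by rw [sub_smul, ← e1, add_sub_cancel_left]⟩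

/-- Both maximality statements, for an abstract extension field. -/
theorem maximal (hr : (Module.finrank F K).Prime) (hdvd : Module.finrank F K ∣ Fintype.card ι)
    (hlt : Module.finrank F K < Fintype.card ι) {N : Subgroup (GL ι F)}
    (hmem : ∀ g, g ∈ N ↔ IsSemi K g) :
    IsCoatom N ∧ Geo.IsMaximalIn (Geo.specialLinear ι F) (N ⊓ Geo.specialLinear ι F) := by
  haveI : Nonempty ι := Fintype.card_pos_iff.1 (by omega)
  have hm : 2 * Module.finrank F K ≤ Fintype.card ι := by
    obtain ⟨m, hm⟩ := hdvd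
    rw [hm, mul_comm 2]
    refine Nat.mul_le_mul_left _ ?_
    by_contra hc
    have := Nat.mul_le_mul_left (Module.finrank F K) (show m ≤ 1 by omega)
    omega
  obtain ⟨t, htSL, htN⟩ := exists_not_semi (ι := ι) hr.one_lt hm
  refine ⟨⟨fun h => htN ((hmem t).1 (h ▸ Subgroup.mem_top t)), fun M hM => ?_⟩, ?_⟩
  · obtain ⟨g, hgM, hgN⟩ := SetLike.exists_of_lt hM
    have hSL := sl_le hr hdvd hlt hmem (inf_le_left.trans hM.le)
      ⟨g, hgM, fun h => hgN ((hmem g).2 h)⟩
    refine (Subgroup.eq_top_iff' M).2 fun x => ?_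
    obtain ⟨d, hd, hdet⟩ := exists_klin_det (ι := ι) (K := K) hr.pos
      (Matrix.GeneralLinearGroup.det x)
    have hdM : d ∈ M := hM.le ((hmem d).2 fun k => ⟨k, fun v => hd k v⟩)
    have : x * d⁻¹ ∈ M := hSL (MonoidHom.mem_ker.2 (by rw [map_mul, map_inv, hdet, mul_inv_cancel]))
    simpa using M.mul_mem this hdM
  · refine ⟨lt_of_le_of_ne inf_le_right fun h => htN ((hmem t).1 (h.ge htSL).1), fun M h1 h2 => ?_⟩
    by_cases hall : ∀ g ∈ M, IsSemi K g
    · exact Or.inl (le_antisymm (fun g hg => ⟨(hmem g).2 (hall g hg), h2 hg⟩) h1)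
    · push Not at hall
      obtain ⟨g, hg, hgn⟩ := hall
      exact Or.inr (le_antisymm h2 (sl_le hr hdvd hlt hmem h1 ⟨g, hg, hgn⟩))

/-- Both maximality statements, for a field embedded in the matrix algebra. -/
theorem maximal_of_hom {E : Type*} [Field E] [Algebra F E] (ρ : E →ₐ[F] Matrix ι ι F)
    (hr : (Module.finrank F E).Prime) (hdvd : Module.finrank F E ∣ Fintype.card ι)
    (hlt : Module.finrank F E < Fintype.card ι) {S : Subalgebra F (Matrix ι ι F)} (hS : ρ.range = S) :
    IsCoatom (Geo.subalgebraNormalizer S) ∧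
      Geo.IsMaximalIn (Geo.specialLinear ι F) (Geo.subalgebraNormalizer S ⊓ Geo.specialLinear ι F) := by
  subst hS
  haveI : Nonempty ι := Fintype.card_pos_iff.1 (by omega)
  haveI : Module.Finite F E := Module.finite_of_finrank_pos hr.pos
  haveI : Finite E := Module.finite_of_finite F
  letI : Module E (ι → F) :=
    Module.compHom (ι → F) ((Matrix.toLinAlgEquiv' (R := F) (n := ι)).toAlgHom.comp ρ).toRingHom
  have hsm : ∀ (k : E) (v : ι → F), k • v = ρ k *ᵥ v := fun k v => rfl
  haveI : IsScalarTower F E (ι → F) := ⟨fun c k v => by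
    rw [hsm, hsm, map_smul, Matrix.smul_mulVec]⟩
  refine maximal hr hdvd hlt fun g => ?_
  have hcj : ∀ (x : Matrix ι ι F) (v : ι → F),
      mv g (x *ᵥ v) = ((g : Matrix ι ι F) * x * ((g⁻¹ : GL ι F) : Matrix ι ι F)) *ᵥ mv g v := by
    intro x v
    simp [mv, Matrix.mulVec_mulVec, mul_assoc]
  constructor
  · intro hg k
    obtain ⟨k', hk'⟩ := (hg (ρ k)).1 ⟨k, rfl⟩
    refine ⟨k', fun v => ?_⟩
    rw [hsm, hsm, hcj]
    exact (congrArg (· *ᵥ mv g v) hk').symm
  · intro hg
    have hfwd : ∀ k : E, ∃ k' : E,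
        ρ k' = (g : Matrix ι ι F) * ρ k * ((g⁻¹ : GL ι F) : Matrix ι ι F) := by
      intro k
      obtain ⟨k', hk'⟩ := hg k
      refine ⟨k', Matrix.ext_of_mulVec_single fun i => ?_⟩
      have e := hk' (mv g⁻¹ (Pi.single i 1))
      rw [hsm, hsm, hcj, mv_mv_inv] at e
      exact e.symm
    choose σ hσ using hfwd
    have hσi : Function.Injective σ := by
      intro a b h
      refine (RingHom.injective ρ.toRingHom) ?_
      have e : (g : Matrix ι ι F) * ρ a * ((g⁻¹ : GL ι F) : Matrix ι ι F) =
          (g : Matrix ι ι F) * ρ b * ((g⁻¹ : GL ι F) : Matrix ι ι F) := by rw [← hσ, ← hσ, h]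
      exact (Units.mul_right_inj g).1 ((Units.mul_left_inj g⁻¹).1 e)
    intro x
    constructor
    · rintro ⟨k, rfl⟩
      exact ⟨σ k, hσ k⟩
    · rintro ⟨k, hk⟩
      obtain ⟨k₀, rfl⟩ := Finite.injective_iff_surjective.1 hσi k
      exact ⟨k₀, (Units.mul_right_inj g).1 ((Units.mul_left_inj g⁻¹).1 ((hσ k₀).symm.trans hk))⟩

end Cfsg.Agent.FieldMax
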